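import Cfsg.Agent.Lib.SmallSimple.Band3640.Tools
import Cfsg.Agent.Lib.SmallSimple.Band6232.Inter
import Cfsg.Agent.Lib.SmallSimple.Band6232.Cases
import Cfsg.Agent.S0997
import Cfsg.Agent.S1010

/-!
Orders between 1093 and 3640 excluded by Sylow subgroups of prime order.
-/

set_option autoImplicit false
set_option linter.style.haveILetI false

namespace CfsgLib.SmallSimple.Band3640

open Subgroup CfsgLib SmallGroups AtMost1092 Band6232

variable {G : Type*} [Group G] [Finite G] [IsSimpleGroup G]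

theorem ne_1260 (hG : ¬ IsMulCommutative G) : Nat.card G ≠ 1260 := by
  intro hn
  haveI : Fact (Nat.Prime 7) := ⟨by norm_num⟩
  obtain ⟨P⟩ : Nonempty (Sylow 7 G) := inferInstance
  have hP := card_of_prime (m := 180) (by rw [hn]) (by norm_num) P
  obtain ⟨k, r, u, hmem, hk, hku, hN, hC⟩ :=
    options (m := 180) hG hn (by norm_num) (by norm_num) P [(15, 2), (15, 3), (15, 6)] (by decide +kernel)
  simp only [List.mem_cons, List.not_mem_nil, or_false, Prod.mk.injEq] at hmem
  have hk15 : k = 15 := by omega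
  subst hk15
  have hu : 2 ∣ u := by
    rcases hmem with ⟨-, rfl⟩ | ⟨-, rfl⟩ | ⟨-, rfl⟩ <;> omega
  exact no_fix hG P hP hn hk (t := 2) (q := 2) (by norm_num) (by norm_num) Nat.prime_two (by norm_num) hC
    (hu.mul_left 7) (by decide +kernel)

theorem ne_1404 (hG : ¬ IsMulCommutative G) : Nat.card G ≠ 1404 := by
  intro hn
  haveI : Fact (Nat.Prime 13) := ⟨by norm_num⟩
  obtain ⟨P⟩ : Nonempty (Sylow 13 G) := inferInstance
  have hP := card_of_prime (m := 108) (by rw [hn]) (by norm_num) P
  obtain ⟨k, r, u, hmem, hk, hku, hN, hC⟩ :=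
    options (m := 108) hG hn (by norm_num) (by norm_num) P [(27, 2), (27, 4)] (by decide +kernel)
  simp only [List.mem_cons, List.not_mem_nil, or_false, Prod.mk.injEq] at hmem
  rcases hmem with ⟨rfl, rfl⟩ | ⟨rfl, rfl⟩
  · obtain rfl : u = 2 := by omega
    exact no_fix hG P hP hn hk (t := 2) (q := 2) (by norm_num) (by norm_num) Nat.prime_two (by norm_num) hC
      (by norm_num) (by decide +kernel)
  · obtain rfl : u = 1 := by omega
    rcases order_of_self_centralizing hG hn (m := 108) (by norm_num) (by norm_num) P (by norm_num)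
      (by rw [hC, mul_one]) (by rw [hk]; norm_num) with h | h <;> norm_num at h

theorem ne_1560 (hG : ¬ IsMulCommutative G) : Nat.card G ≠ 1560 := by
  intro hn
  haveI : Fact (Nat.Prime 13) := ⟨by norm_num⟩
  obtain ⟨P⟩ : Nonempty (Sylow 13 G) := inferInstance
  obtain ⟨k, r, u, hmem, hk, hku, hN, hC⟩ :=
    options (m := 120) hG hn (by norm_num) (by norm_num) P [(40, 3)] (by decide +kernel)
  simp only [List.mem_singleton, Prod.mk.injEq] at hmem
  obtain ⟨rfl, rfl⟩ := hmem
  obtain rfl : u = 1 := by omega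
  rcases order_of_self_centralizing hG hn (m := 120) (by norm_num) (by norm_num) P (by norm_num)
    (by rw [hC, mul_one]) (by rw [hk]; norm_num) with h | h <;> norm_num at h

theorem ne_1716 (hG : ¬ IsMulCommutative G) : Nat.card G ≠ 1716 := by
  intro hn
  haveI : Fact (Nat.Prime 13) := ⟨by norm_num⟩
  obtain ⟨P⟩ : Nonempty (Sylow 13 G) := inferInstance
  obtain ⟨k, r, u, hmem, hk, hku, hN, hC⟩ :=
    options (m := 132) hG hn (by norm_num) (by norm_num) P [(66, 2)] (by decide +kernel)
  simp only [List.mem_singleton, Prod.mk.injEq] at hmem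
  obtain ⟨rfl, rfl⟩ := hmem
  obtain rfl : u = 1 := by omega
  rcases order_of_self_centralizing_odd hG hn (m := 132) (by norm_num) (by norm_num) P (by norm_num)
    (by rw [hC, mul_one]) (by rw [hk]; norm_num) with h | ⟨l, hl⟩
  · norm_num at h
  · rcases le_or_gt l 3 with h | h
    · interval_cases l <;> norm_num at hl
    · have := Nat.pow_le_pow_right (show 1 ≤ 2 by norm_num) h
      omega

theorem ne_3080 (hG : ¬ IsMulCommutative G) : Nat.card G ≠ 3080 := by
  intro hn
  haveI : Fact (Nat.Prime 11) := ⟨by norm_num⟩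
  obtain ⟨P⟩ : Nonempty (Sylow 11 G) := inferInstance
  obtain ⟨k, r, u, hmem, hk, hku, hN, hC⟩ :=
    options (m := 280) hG hn (by norm_num) (by norm_num) P [(56, 5)] (by decide +kernel)
  simp only [List.mem_singleton, Prod.mk.injEq] at hmem
  obtain ⟨rfl, rfl⟩ := hmem
  obtain rfl : u = 1 := by omega
  rcases order_of_self_centralizing hG hn (m := 280) (by norm_num) (by norm_num) P (by norm_num)
    (by rw [hC, mul_one]) (by rw [hk]; norm_num) with h | h <;> norm_num at h

theorem ne_3432 (hG : ¬ IsMulCommutative G) : Nat.card G ≠ 3432 := by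
  intro hn
  haveI : Fact (Nat.Prime 13) := ⟨by norm_num⟩
  obtain ⟨P⟩ : Nonempty (Sylow 13 G) := inferInstance
  have hP := card_of_prime (m := 264) (by rw [hn]) (by norm_num) P
  obtain ⟨k, r, u, hmem, hk, hku, hN, hC⟩ :=
    options (m := 264) hG hn (by norm_num) (by norm_num) P [(66, 2), (66, 4)] (by decide +kernel)
  simp only [List.mem_cons, List.not_mem_nil, or_false, Prod.mk.injEq] at hmem
  rcases hmem with ⟨rfl, rfl⟩ | ⟨rfl, rfl⟩
  · obtain rfl : u = 2 := by omega
    exact no_fix hG P hP hn hk (t := 5) (q := 2) (by norm_num) (by norm_num) Nat.prime_two (by norm_num) hC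
      (by norm_num) (by decide +kernel)
  · obtain rfl : u = 1 := by omega
    rcases order_of_self_centralizing hG hn (m := 264) (by norm_num) (by norm_num) P (by norm_num)
      (by rw [hC, mul_one]) (by rw [hk]; norm_num) with h | h <;> norm_num at h

theorem ne_1620 (hG : ¬ IsMulCommutative G) : Nat.card G ≠ 1620 := by
  intro hn
  haveI : Fact (Nat.Prime 5) := ⟨by norm_num⟩
  obtain ⟨P⟩ : Nonempty (Sylow 5 G) := inferInstance
  have hP := card_of_prime (m := 324) (by rw [hn]) (by norm_num) P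
  obtain ⟨k, r, u, hmem, hk, hku, hN, hC⟩ :=
    options (m := 324) hG hn (by norm_num) (by norm_num) P [(81, 2), (81, 4)] (by decide +kernel)
  have h5 := card_centralizer_of_two_three 4 2 (by rw [hn]; norm_num) P hP
  obtain rfl : u = 1 := by omega
  simp only [List.mem_cons, List.not_mem_nil, or_false, Prod.mk.injEq] at hmem
  rcases hmem with ⟨rfl, rfl⟩ | ⟨rfl, rfl⟩
  · omega
  · exact false_of_four hG (by rw [hn]; norm_num) P (by norm_num) hP h5 (by rw [hN])

theorem ne_1680 (hG : ¬ IsMulCommutative G) : Nat.card G ≠ 1680 := by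
  intro hn
  haveI : Fact (Nat.Prime 5) := ⟨by norm_num⟩
  obtain ⟨P⟩ : Nonempty (Sylow 5 G) := inferInstance
  obtain ⟨k, r, u, hmem, hk, hku, hN, hC⟩ :=
    options (m := 336) hG hn (by norm_num) (by norm_num) P [(21, 2), (21, 4), (56, 2)] (by decide +kernel)
  simp only [List.mem_cons, List.not_mem_nil, or_false, Prod.mk.injEq] at hmem
  rcases hmem with ⟨rfl, -⟩ | ⟨rfl, -⟩ | ⟨rfl, rfl⟩
  · exact Cfsg.Agent.S1010.result hk
  · exact Cfsg.Agent.S1010.result hk
  · obtain rfl : u = 3 := by omega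
    exact false_of_no_local hG hn (m := 336) (by norm_num) (by norm_num) P hk (by norm_num) hN hC
      (q := 3) Nat.prime_three (by norm_num) (by norm_num) (by norm_num) (by decide +kernel)

theorem ne_2100 (hG : ¬ IsMulCommutative G) : Nat.card G ≠ 2100 := by
  intro hn
  haveI : Fact (Nat.Prime 5) := ⟨by norm_num⟩
  obtain ⟨P⟩ : Nonempty (Sylow 5 G) := inferInstance
  have hnG : Nat.card G = 5 ^ 2 * 84 := by rw [hn]; norm_num
  obtain ⟨k, c, hk, hk1, hkp, hkc, hN, hfac⟩ := sylow_data hG hnG (by norm_num) (by norm_num) P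
  have hs : ∀ i ∈ Nat.divisors 84, i % 5 = 1 → i ≠ 1 → i.factorial % (2 * 2100) = 0 → i = 21 := by
    decide +kernel
  exact Cfsg.Agent.S1010.result
    (hk.trans (hs k (Nat.mem_divisors.2 ⟨⟨c, hkc.symm⟩, by norm_num⟩) hkp hk1
      (Nat.mod_eq_zero_of_dvd (hn ▸ hfac))))

theorem ne_2940 (hG : ¬ IsMulCommutative G) : Nat.card G ≠ 2940 := by
  intro hn
  haveI : Fact (Nat.Prime 5) := ⟨by norm_num⟩
  obtain ⟨P⟩ : Nonempty (Sylow 5 G) := inferInstance
  obtain ⟨k, r, u, hmem, hk, hku, hN, hC⟩ :=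
    options (m := 588) hG hn (by norm_num) (by norm_num) P [(21, 2), (21, 4)] (by decide +kernel)
  simp only [List.mem_cons, List.not_mem_nil, or_false, Prod.mk.injEq] at hmem
  rcases hmem with ⟨rfl, -⟩ | ⟨rfl, -⟩ <;> exact Cfsg.Agent.S1010.result hk

theorem ne_1980 (hG : ¬ IsMulCommutative G) : Nat.card G ≠ 1980 := by
  intro hn
  haveI : Fact (Nat.Prime 11) := ⟨by norm_num⟩
  obtain ⟨P⟩ : Nonempty (Sylow 11 G) := inferInstance
  have hP := card_of_prime (m := 180) (by rw [hn]) (by norm_num) P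
  obtain ⟨k, r, u, hmem, hk, hku, hN, hC⟩ :=
    options (m := 180) hG hn (by norm_num) (by norm_num) P [(45, 2)] (by decide +kernel)
  simp only [List.mem_singleton, Prod.mk.injEq] at hmem
  obtain ⟨rfl, rfl⟩ := hmem
  obtain rfl : u = 2 := by omega
  obtain ⟨y, hyC, hy⟩ := exists_of_dvd_centralizer (q := 2) Nat.prime_two hC (by norm_num)
  exact false_of_klein hG (by rw [hn]; norm_num) (by rw [hn]; norm_num) P (by rw [hC]; norm_num) hyC hy
    (fix_unique hG P hP (t := 4) hk (by norm_num) (by norm_num) hyC hy (by norm_num)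
      (by rw [hn]; decide +kernel))

theorem ne_2200 (hG : ¬ IsMulCommutative G) : Nat.card G ≠ 2200 := by
  intro hn
  haveI : Fact (Nat.Prime 11) := ⟨by norm_num⟩
  obtain ⟨P⟩ : Nonempty (Sylow 11 G) := inferInstance
  obtain ⟨k, r, u, hmem, hk, hku, hN, -⟩ :=
    options (m := 200) hG hn (by norm_num) (by norm_num) P [(100, 2)] (by decide +kernel)
  simp only [List.mem_singleton, Prod.mk.injEq] at hmem
  obtain ⟨rfl, rfl⟩ := hmem
  obtain rfl : u = 1 := by omega
  exact false_of_formula hG hn (m := 200) (by norm_num) (by norm_num) (by norm_num) P (by simpa using hN)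
    (by decide +kernel)

theorem ne_3168 (hG : ¬ IsMulCommutative G) : Nat.card G ≠ 3168 := by
  intro hn
  haveI : Fact (Nat.Prime 11) := ⟨by norm_num⟩
  obtain ⟨P⟩ : Nonempty (Sylow 11 G) := inferInstance
  obtain ⟨k, r, u, hmem, hk, hku, hN, -⟩ :=
    options (m := 288) hG hn (by norm_num) (by norm_num) P [(144, 2)] (by decide +kernel)
  simp only [List.mem_singleton, Prod.mk.injEq] at hmem
  obtain ⟨rfl, rfl⟩ := hmem
  obtain rfl : u = 1 := by omega
  exact false_of_formula hG hn (m := 288) (by norm_num) (by norm_num) (by norm_num) P (by simpa using hN)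
    (by decide +kernel)

theorem ne_2268 (hG : ¬ IsMulCommutative G) : Nat.card G ≠ 2268 := by
  intro hn
  haveI : Fact (Nat.Prime 7) := ⟨by norm_num⟩
  obtain ⟨P⟩ : Nonempty (Sylow 7 G) := inferInstance
  have hP := card_of_prime (m := 324) (by rw [hn]) (by norm_num) P
  obtain ⟨k, r, u, hmem, hk, hku, hN, hC⟩ :=
    options (m := 324) hG hn (by norm_num) (by norm_num) P [(36, 3), (162, 2)] (by decide +kernel)
  simp only [List.mem_cons, List.not_mem_nil, or_false, Prod.mk.injEq] at hmem
  rcases hmem with ⟨rfl, rfl⟩ | ⟨rfl, rfl⟩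
  · obtain rfl : u = 3 := by omega
    exact no_fix hG P hP hn hk (t := 5) (q := 3) (by norm_num) (by norm_num) Nat.prime_three (by norm_num) hC
      (by norm_num) (by decide +kernel)
  · obtain rfl : u = 1 := by omega
    exact false_of_formula hG hn (m := 324) (by norm_num) (by norm_num) (by norm_num) P (by simpa using hN)
      (by decide +kernel)

theorem ne_3528 (hG : ¬ IsMulCommutative G) : Nat.card G ≠ 3528 := fun hn =>
  haveI : Fact (Nat.Prime 7) := ⟨by norm_num⟩
  false_of_inter hG (p := 7) (a := 2) (m := 72) hn (by norm_num) (by norm_num) (by norm_num)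
    (by decide +kernel) (by decide +kernel)

theorem ne_2688 (hG : ¬ IsMulCommutative G) : Nat.card G ≠ 2688 := by
  intro hn
  have hc : ¬ IsCyclic G := fun h => hG IsCyclic.isMulCommutative
  rcases Cfsg.Agent.S0997.result hc 7 2 7 3 (by norm_num) Nat.prime_two (by norm_num)
    (by rw [hn]; norm_num) (by norm_num) with
    ⟨m, F, hF1, hF2, hFc, -, ⟨e⟩⟩ | ⟨m, F, hF1, hF2, hFc, h7, -, ⟨e⟩⟩
  · have h4 := Classical.card_PSL_mul (F := F) hFc 2 (by norm_num)
    rw [← Nat.card_congr e.toEquiv, Fin.prod_univ_two, hn] at h4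
    norm_num at h4
  · have h2 : 2 ^ m = 6 := by omega
    have : ∀ i ≤ 3, 2 ^ i ≠ 6 := by decide
    rcases le_or_gt m 3 with h | h
    · exact this m h h2
    · have := Nat.pow_le_pow_right (show 1 ≤ 2 by norm_num) h
      omega

end CfsgLib.SmallSimple.Band3640
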