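import Cfsg.Agent.Lib.SmallSimple.Band6232.Fusion
import Cfsg.Agent.S1001

/-!
An element of prime order in the centralizer of a Sylow subgroup of prime order with no possible number of
fixed Sylow subgroups, and self-centralizing Sylow subgroups for orders with three prime divisors.
-/

set_option autoImplicit false
set_option linter.style.haveILetI false
set_option linter.unusedSectionVars false

namespace CfsgLib.SmallSimple.Band3640

open Subgroup CfsgLib SmallGroups AtMost1092 Band6232

variable {G : Type*} [Group G] [Finite G] [IsSimpleGroup G] {p : ℕ} [hp : Fact p.Prime]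

/-- The fixed Sylow subgroups of an element of prime order `q`, modulo `q`. -/
theorem fixCard_mod {q : ℕ} (hq : q.Prime) {y : G} (hy : orderOf y = q) :
    SylowFixed.fixCard p y % q = Nat.card (Sylow p G) % q := by
  haveI : Fact q.Prime := ⟨hq⟩
  have hz : IsPGroup q (zpowers y) := IsPGroup.of_card (n := 1) (by rw [Nat.card_zpowers, hy, pow_one])
  have hmod := hz.card_modEq_card_fixedPoints (Sylow p G)
  have he : MulAction.fixedPoints (zpowers y) (Sylow p G) = {Q | y • Q = Q} := by
    ext Q
    refine ⟨fun h => h ⟨y, mem_zpowers y⟩, fun h u => ?_⟩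
    obtain ⟨i, hi⟩ := mem_zpowers_iff.1 u.2
    show (u : G) • Q = Q
    rw [← hi]
    exact MulAction.mem_stabilizer_iff.1 ((MulAction.stabilizer G Q).zpow_mem h i)
  rw [he] at hmod
  exact hmod.symm

/-- An element fixing all Sylow subgroups is trivial. -/
theorem fixCard_ne {k : ℕ} (hk : Nat.card (Sylow p G) = k) (hk1 : k ≠ 1) {y : G} (hy1 : y ≠ 1) :
    SylowFixed.fixCard p y ≠ k := by
  intro h
  refine hy1 (SylowFixed.faithful (hk ▸ hk1) fun Q => ?_)
  by_contra hQ
  have := Finite.card_subtype_lt (p := fun R : Sylow p G => y • R = R) hQ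
  rw [hk] at this
  exact absurd h (ne_of_lt this)

/-- No number of fixed Sylow subgroups is possible. -/
def noFixOK (n p q k t : ℕ) : Bool :=
  (List.range (k + 1)).all fun f => decide (f % p ≠ 1) || decide (f % q ≠ k % q) ||
    (decide (q = 2) && decide ((k - f) % 4 ≠ 0)) || decide (f = k) ||
    (decide (t + 1 < f) && decide (n % (p * q * f) ≠ 0))

/-- An element of order `q` centralizing `P` with no possible number of fixed Sylow subgroups. -/
theorem no_fix (hG : ¬ IsMulCommutative G) (P : Sylow p G) (hP : Nat.card (P : Subgroup G) = p)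
    {k t q c n : ℕ} (hnG : Nat.card G = n) (hk : Nat.card (Sylow p G) = k) (hkt : k = p * t + 1)
    (hk1 : k ≠ 1) (hq : q.Prime) (hqp : q ≠ p)
    (hC : Nat.card (centralizer ((P : Subgroup G) : Set G)) = c) (hqc : q ∣ c)
    (h : noFixOK n p q k t = true) : False := by
  obtain ⟨y, hyC, hy⟩ := exists_of_dvd_centralizer hq hC hqc
  have hy1 : y ≠ 1 := fun e => by rw [e, orderOf_one] at hy; exact hq.one_lt.ne hy
  have hle : SylowFixed.fixCard p y ≤ k := hk ▸ Finite.card_subtype_le _
  have hmodp : SylowFixed.fixCard p y % p = 1 := by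
    obtain ⟨i, hi⟩ := SylowFixed.exists_fixCard_eq P hP hyC
    rw [hi, Nat.add_mul_mod_self_left, Nat.mod_eq_of_lt hp.out.one_lt]
  have hmodq : SylowFixed.fixCard p y % q = k % q := hk ▸ fixCard_mod hq hy
  simp only [noFixOK, List.all_eq_true, List.mem_range, Bool.or_eq_true, Bool.and_eq_true,
    decide_eq_true_eq] at h
  rcases h _ (Nat.lt_succ_of_le hle) with (((h1 | h1) | ⟨h1, h2⟩) | h1) | ⟨h1, h2⟩
  · exact h1 hmodp
  · exact h1 hmodq
  · subst h1
    have h4 := SylowFixed.four_dvd_moved (p := p) hG (g := y)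
      (by rw [← pow_two, ← hy, pow_orderOf_eq_one])
    rw [hk] at h4
    exact h2 (Nat.mod_eq_zero_of_dvd h4)
  · exact fixCard_ne hk hk1 hy1 h1
  · obtain ⟨-, -, -, h5⟩ := fixCard_facts hG P hP hk hk1 hq hqp hy hyC
      (fun Q hQ => SylowFixed.mem_centralizer_of_lt_fixCard Q
        (by rw [Nat.card_congr (Q.equiv P).toEquiv, hP]) (hk.trans hkt)
        (Sylow.smul_eq_iff_mem_normalizer.1 hQ) h1)
    exact h2 (hnG ▸ Nat.mod_eq_zero_of_dvd h5)

/-- Few Sylow subgroups with self-centralizing Sylow subgroup of order not a Fermat prime. -/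
theorem order_of_self_centralizing_odd (hG : ¬ IsMulCommutative G) {n m : ℕ} (hnG : Nat.card G = n)
    (hn : n = p * m) (hm : ¬ p ∣ m) (P : Sylow p G) (hp2 : p ≠ 2)
    (hC : Nat.card (centralizer ((P : Subgroup G) : Set G)) = p)
    (hk : 2 * Nat.card (Sylow p G) < (p + 1) * (p + 2)) :
    2 * n = p * (p * p - 1) ∨ ∃ l, p = 2 ^ l + 1 := by
  subst hn
  have hcard := card_of_prime hnG hm P
  obtain ⟨z, hz, hPz⟩ := exists_zpowers_of_card_prime hcard
  haveI : IsCyclic (P : Subgroup G) := isCyclic_of_prime_card hcard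
  haveI : IsMulCommutative (P : Subgroup G) := IsCyclic.isMulCommutative
  have hC' : centralizer ((P : Subgroup G) : Set G) = (P : Subgroup G) :=
    (eq_of_le_of_card_ge (le_centralizer _) (by rw [hC, hcard])).symm
  have hCz : centralizer ({z} : Set G) = zpowers z := by
    calc centralizer ({z} : Set G) = centralizer ((zpowers z : Subgroup G) : Set G) := by
          rw [← centralizer_closure, zpowers_eq_closure]
      _ = zpowers z := by rw [← hPz, hC']
  rw [← hnG]
  rcases Cfsg.Agent.S0996.result (G := G) (commutator_eq_top_of_simple hG) p z hz hCz hk with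
    ⟨F, hF1, hF2, hFc, h3, ⟨e⟩⟩ | ⟨l, F, hF1, hF2, hFc, hpl, h3, ⟨e⟩⟩
  · left
    have h4 := Classical.card_PSL_mul (F := F) hFc 2 (by norm_num)
    rw [← Nat.card_congr e.toEquiv, Fin.prod_univ_two] at h4
    obtain ⟨j, rfl⟩ : Odd p := hp.out.odd_of_ne_two hp2
    rw [show Nat.gcd 2 (2 * j + 1 - 1) = 2 by simp] at h4
    simp only [Fin.val_zero, pow_zero, Fin.val_one, pow_one, show 2 * j + 1 - 1 = 2 * j by omega] at h4
    have h5 : (2 * j + 1) ^ 2 - (2 * j + 1) = (2 * j + 1) * (2 * j) := by
      have : (2 * j + 1) ^ 2 = (2 * j + 1) * (2 * j) + (2 * j + 1) := by ring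
      omega
    have h6 : (2 * j + 1) * (2 * j + 1) - 1 = (2 * j + 1) ^ 2 - 1 := by rw [pow_two]
    rw [h6]
    rw [h5] at h4
    exact Nat.eq_of_mul_eq_mul_left (show 0 < 2 * j by omega) (by linear_combination h4)
  · exact Or.inr ⟨l, by omega⟩

/-- A Sylow subgroup of prime order is self-centralizing when the order is `p * 3 ^ a * 2 ^ b`. -/
theorem card_centralizer_of_two_three (a b : ℕ) (hG : Nat.card G = p * 3 ^ a * 2 ^ b) (P : Sylow p G)
    (hP : Nat.card (P : Subgroup G) = p) :
    Nat.card (centralizer ((P : Subgroup G) : Set G)) = p := by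
  obtain ⟨x, hx, hPx⟩ := exists_zpowers_of_card_prime hP
  have hC := Cfsg.Agent.S1001.result p a b hp.out hG x hx
  have h : centralizer ((P : Subgroup G) : Set G) = zpowers x := by
    rw [hPx, zpowers_eq_closure, centralizer_closure, ← zpowers_eq_closure, hC]
  rw [h, Nat.card_zpowers, hx]

end CfsgLib.SmallSimple.Band3640
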