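import Cfsg.Agent.Lib.SmallSimple.Band3640.BlockTwo
import Cfsg.Agent.Lib.SmallSimple.Band3640.Tools

/-!
The orders 2160, 3120 and 3360.
-/

set_option autoImplicit false
set_option linter.style.haveILetI false

namespace CfsgLib.SmallSimple.Band3640

open Subgroup CfsgLib SmallGroups AtMost1092 Band6232

variable {G : Type*} [Group G] [Finite G] [IsSimpleGroup G]

theorem ne_3120 (hG : ¬ IsMulCommutative G) : Nat.card G ≠ 3120 := by
  intro hn
  haveI : Fact (Nat.Prime 13) := ⟨by norm_num⟩
  obtain ⟨P⟩ : Nonempty (Sylow 13 G) := inferInstance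
  have hP := card_of_prime (m := 240) (by rw [hn]) (by norm_num) P
  obtain ⟨k, r, u, hmem, hk, hku, hN, hC⟩ :=
    options (m := 240) hG hn (by norm_num) (by norm_num) P [(40, 2), (40, 3), (40, 6)] (by decide +kernel)
  simp only [List.mem_cons, List.not_mem_nil, or_false, Prod.mk.injEq] at hmem
  rcases hmem with ⟨rfl, rfl⟩ | ⟨rfl, rfl⟩ | ⟨rfl, rfl⟩
  · obtain rfl : u = 3 := by omega
    exact false_of_twoOK_any hG P hP hn (by norm_num) (by norm_num) hN hC (D := 56) (by norm_num)
      (by decide +kernel)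
  · obtain rfl : u = 2 := by omega
    exact no_fix hG P hP hn hk (t := 3) (q := 2) (by norm_num) (by norm_num) Nat.prime_two (by norm_num) hC
      (by norm_num) (by decide +kernel)
  · obtain rfl : u = 1 := by omega
    rcases order_of_self_centralizing hG hn (m := 240) (by norm_num) (by norm_num) P (by norm_num)
      (by rw [hC, mul_one]) (by rw [hk]; norm_num) with h | h <;> norm_num at h

theorem ne_3360 (hG : ¬ IsMulCommutative G) : Nat.card G ≠ 3360 := by
  intro hn
  haveI : Fact (Nat.Prime 7) := ⟨by norm_num⟩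
  obtain ⟨P⟩ : Nonempty (Sylow 7 G) := inferInstance
  have hP := card_of_prime (m := 480) (by rw [hn]) (by norm_num) P
  obtain ⟨k, r, u, hmem, hk, hku, hN, hC⟩ :=
    options (m := 480) hG hn (by norm_num) (by norm_num) P [(15, 2), (120, 2)] (by decide +kernel)
  simp only [List.mem_cons, List.not_mem_nil, or_false, Prod.mk.injEq] at hmem
  rcases hmem with ⟨rfl, rfl⟩ | ⟨rfl, rfl⟩
  · obtain rfl : u = 16 := by omega
    exact no_fix hG P hP hn hk (t := 2) (q := 2) (by norm_num) (by norm_num) Nat.prime_two (by norm_num) hC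
      (by norm_num) (by decide +kernel)
  · obtain rfl : u = 2 := by omega
    obtain ⟨y, hyC, hy⟩ := exists_of_dvd_centralizer (q := 2) Nat.prime_two hC (by norm_num)
    have h14 : 14 ∣ Nat.card (centralizer ({y} : Set G)) := by
      have h7 : (P : Subgroup G) ≤ centralizer ({y} : Set G) := fun x hx =>
        mem_centralizer_singleton_iff.2 (mem_centralizer_iff.1 hyC x hx)
      have h7' := card_dvd_of_le h7
      rw [hP] at h7'
      have h2' := Subgroup.orderOf_dvd_natCard (centralizer ({y} : Set G))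
        (mem_centralizer_singleton_iff.2 (rfl : y * y = y * y))
      rw [hy] at h2'
      exact Nat.Coprime.mul_dvd_of_dvd_of_dvd (m := 7) (n := 2) (by norm_num) h7' h2'
    have hs : ∀ C ∈ Nat.divisors 3360, 14 ∣ C → twoOK 3360 7 2 C 58 true = true := by decide +kernel
    exact false_of_twoOK hG P hP hn (by norm_num) hN hC hy rfl (fun _ => hyC) (by norm_num)
      (hs _ (Nat.mem_divisors.2 ⟨hn ▸ card_subgroup_dvd_card _, by norm_num⟩) h14)

theorem ne_2160 (hG : ¬ IsMulCommutative G) : Nat.card G ≠ 2160 := by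
  intro hn
  haveI : Fact (Nat.Prime 5) := ⟨by norm_num⟩
  haveI : Fact (Nat.Prime 2) := ⟨Nat.prime_two⟩
  obtain ⟨P⟩ : Nonempty (Sylow 5 G) := inferInstance
  have hP := card_of_prime (m := 432) (by rw [hn]) (by norm_num) P
  obtain ⟨k, r, u, hmem, hk, hku, hN, hC⟩ :=
    options (m := 432) hG hn (by norm_num) (by norm_num) P [(36, 2), (36, 4), (216, 2)] (by decide +kernel)
  have h5 := card_centralizer_of_two_three 3 4 (by rw [hn]; norm_num) P hP
  obtain rfl : u = 1 := by omega
  simp only [List.mem_cons, List.not_mem_nil, or_false, Prod.mk.injEq] at hmem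
  rcases hmem with ⟨rfl, rfl⟩ | ⟨rfl, rfl⟩ | ⟨rfl, rfl⟩
  · omega
  · omega
  obtain ⟨S⟩ : Nonempty (Sylow 2 G) := inferInstance
  have hS : Nat.card (S : Subgroup G) = 2 ^ 4 := card_sylow_eq (m := 135) (by rw [hn]; norm_num) (by norm_num) S
  haveI : Nontrivial (S : Subgroup G) := Finite.one_lt_card_iff_nontrivial.1 (by rw [hS]; norm_num)
  haveI := S.2.center_nontrivial
  obtain ⟨z, hz⟩ := exists_prime_orderOf_dvd_card' (G := center (S : Subgroup G)) 2 (by
    obtain ⟨i, hi⟩ := IsPGroup.iff_card.1 (S.2.to_subgroup (center (S : Subgroup G)))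
    rw [hi]
    refine dvd_pow_self 2 fun h0 => ?_
    have h1 := Finite.one_lt_card (α := center (S : Subgroup G))
    rw [hi, h0, pow_zero] at h1
    omega)
  set t : G := ((z : (S : Subgroup G)) : G) with htdef
  have ht : orderOf t = 2 := by rw [htdef, Subgroup.orderOf_coe, Subgroup.orderOf_coe, hz]
  have h16 : 16 ∣ Nat.card (centralizer ({t} : Set G)) := by
    have hle : (S : Subgroup G) ≤ centralizer ({t} : Set G) := fun g hg => by
      rw [mem_centralizer_singleton_iff]
      exact congrArg Subtype.val (mem_center_iff.1 z.2 ⟨g, hg⟩)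
    have := card_dvd_of_le hle
    rwa [hS] at this
  have hn5 : ¬ 5 ∣ Nat.card (centralizer ({t} : Set G)) := by
    intro h
    obtain ⟨y, hy⟩ := exists_prime_orderOf_dvd_card' (G := centralizer ({t} : Set G)) 5 h
    have hCy := Cfsg.Agent.S1001.result 5 3 4 (by norm_num) (by rw [hn]; norm_num) (y : G)
      (by rw [Subgroup.orderOf_coe, hy])
    have hty : t ∈ centralizer ({(y : G)} : Set G) :=
      mem_centralizer_singleton_iff.2 (mem_centralizer_singleton_iff.1 y.2).symm
    rw [hCy] at hty
    have h2 := Subgroup.orderOf_dvd_natCard _ hty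
    rw [Nat.card_zpowers, ht, Subgroup.orderOf_coe, hy] at h2
    norm_num at h2
  have hs : ∀ C ∈ Nat.divisors 2160, 16 ∣ C → ¬ 5 ∣ C → twoOK 2160 5 1 C 47 false = true := by decide +kernel
  exact false_of_twoOK hG P hP hn le_rfl hN hC ht rfl (fun e => by simp at e) (by norm_num)
    (hs _ (Nat.mem_divisors.2 ⟨hn ▸ card_subgroup_dvd_card _, by norm_num⟩) h16 hn5)

end CfsgLib.SmallSimple.Band3640
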