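import Cfsg.Agent.Lib.SmallSimple.Band6232.Inter
import Cfsg.Agent.Lib.SmallGroups.AbelianSylow

/-!
Orders between 1093 and 3640 excluded by intersections of Sylow subgroups of order twenty-five.
-/

set_option autoImplicit false
set_option linter.style.haveILetI false
set_option linter.unusedSectionVars false

namespace CfsgLib.SmallSimple.Band3640

open Subgroup CfsgLib SmallGroups AtMost1092 Band6232

variable {G : Type*} [Group G] [Finite G] [IsSimpleGroup G]

/-- Two Sylow subgroups meeting in order five, and the possible normalizers of the intersection. -/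
theorem exists_inter_five (hG : ¬ IsMulCommutative G) {n m : ℕ} [Fact (Nat.Prime 5)] (hnG : Nat.card G = n)
    (hn : n = 5 ^ 2 * m) (hm : ¬ 5 ∣ m) (L : List ℕ) (P : Sylow 5 G)
    (hks : ∀ k ∈ Nat.divisors m, k % 5 = 1 → k ≠ 1 → k.factorial % (2 * n) = 0 → k % 25 = 1 → k = m)
    (hmms : ∀ mm ∈ Nat.divisors m, ∀ j ∈ Nat.divisors mm, j % 5 = 1 → j ≠ 1 → m / mm ≠ 1 →
      (m / mm).factorial % (2 * n) = 0 → mm ∈ L ∧ j = 6) :
    ∃ Q : Sylow 5 G, Q ≠ P ∧
      Nat.card ↥((P : Subgroup G) ⊓ (Q : Subgroup G)) * 5 = Nat.card (P : Subgroup G) ∧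
      ∃ mm ∈ L,
        Nat.card (normalizer (((P : Subgroup G) ⊓ (Q : Subgroup G) : Subgroup G) : Set G)) = 25 * mm ∧
        Nat.card (Sylow 5 (normalizer (((P : Subgroup G) ⊓ (Q : Subgroup G) : Subgroup G) : Set G))) = 6 := by
  obtain ⟨k, c, hk, hk1, hkp, hkc, hN, hfac⟩ := sylow_data hG (hnG.trans hn) hm two_ne_zero P
  have hm0 : 0 < m := Nat.pos_of_ne_zero fun h => hm (h ▸ dvd_zero 5)
  have hmod : Nat.card (Sylow 5 G) % 5 ^ 2 ≠ 1 := by
    intro h
    rw [hk] at h
    have := hks k (Nat.mem_divisors.2 ⟨⟨c, hkc.symm⟩, hm0.ne'⟩) hkp hk1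
      (Nat.mod_eq_zero_of_dvd (hnG ▸ hfac)) h
    subst this
    obtain rfl : c = 1 := by
      have h1 : k * c = k * 1 := by omega
      exact Nat.eq_of_mul_eq_mul_left hm0 h1
    exact normalizer_ne_self hG (hnG.trans hn) hm (by norm_num) le_rfl P (by rw [hN, mul_one])
  obtain ⟨Q, hQ, hD⟩ := exists_inter_of_mod P hmod
  obtain ⟨mm, j, hmm, hj, hjp, hj1, hmm1, hf, hX, hXj⟩ := local_facts hG hnG hn hm le_rfl hQ hD
  obtain ⟨h1, rfl⟩ := hmms mm (Nat.mem_divisors.2 ⟨hmm, hm0.ne'⟩) j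
    (Nat.mem_divisors.2 ⟨hj, fun h => by rw [h, zero_dvd_iff] at hmm; omega⟩) hjp hj1 hmm1
    (Nat.mod_eq_zero_of_dvd hf)
  exact ⟨Q, hQ, hD, mm, h1, by rw [hX]; norm_num, hXj⟩

/-- Intersections with a normalizer of order one hundred and fifty only. -/
theorem false_of_inter_six (hG : ¬ IsMulCommutative G) {n m : ℕ} [Fact (Nat.Prime 5)] (hnG : Nat.card G = n)
    (hn : n = 5 ^ 2 * m) (hm : ¬ 5 ∣ m)
    (hks : ∀ k ∈ Nat.divisors m, k % 5 = 1 → k ≠ 1 → k.factorial % (2 * n) = 0 → k % 25 = 1 → k = m)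
    (hmms : ∀ mm ∈ Nat.divisors m, ∀ j ∈ Nat.divisors mm, j % 5 = 1 → j ≠ 1 → m / mm ≠ 1 →
      (m / mm).factorial % (2 * n) = 0 → mm ∈ [6] ∧ j = 6) : False := by
  obtain ⟨P⟩ : Nonempty (Sylow 5 G) := inferInstance
  obtain ⟨Q, -, -, mm, hmm, hX, hXj⟩ := exists_inter_five hG hnG hn hm [6] P hks hmms
  rw [List.mem_singleton] at hmm
  subst hmm
  have := sylow_number_half (p := 5) (a := 2) (m := 3) (by norm_num)
    (H := normalizer (((P : Subgroup G) ⊓ (Q : Subgroup G) : Subgroup G) : Set G))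
    (by rw [hX]; norm_num) (by norm_num) (by norm_num)
  rw [hXj] at this
  norm_num at this

theorem ne_1800 (hG : ¬ IsMulCommutative G) : Nat.card G ≠ 1800 := fun hn =>
  haveI : Fact (Nat.Prime 5) := ⟨by norm_num⟩
  false_of_inter_six hG (m := 72) hn (by norm_num) (by norm_num) (by decide +kernel) (by decide +kernel)

theorem ne_2400 (hG : ¬ IsMulCommutative G) : Nat.card G ≠ 2400 := fun hn =>
  haveI : Fact (Nat.Prime 5) := ⟨by norm_num⟩
  false_of_inter_six hG (m := 96) hn (by norm_num) (by norm_num) (by decide +kernel) (by decide +kernel)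

theorem ne_2700 (hG : ¬ IsMulCommutative G) : Nat.card G ≠ 2700 := fun hn =>
  haveI : Fact (Nat.Prime 5) := ⟨by norm_num⟩
  false_of_inter_six hG (m := 108) hn (by norm_num) (by norm_num) (by decide +kernel) (by decide +kernel)

theorem ne_3600 (hG : ¬ IsMulCommutative G) : Nat.card G ≠ 3600 := by
  intro hn
  haveI : Fact (Nat.Prime 5) := ⟨by norm_num⟩
  obtain ⟨P⟩ : Nonempty (Sylow 5 G) := inferInstance
  have hnG : Nat.card G = 5 ^ 2 * 144 := by rw [hn]; norm_num
  have hP25 : ∀ R : Sylow 5 G, Nat.card (R : Subgroup G) = 25 := fun R =>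
    (card_sylow_eq hnG (by norm_num) R).trans (by norm_num)
  have hcomm : ∀ R : Sylow 5 G, IsMulCommutative (R : Subgroup G) := fun R =>
    IsPGroup.isMulCommutative_of_card_eq_prime_sq (p := 5) (by rw [hP25 R]; norm_num)
  obtain ⟨Q, hQP, hD, mm, hmm, hX, hXj⟩ := exists_inter_five hG hn (m := 144) (by norm_num) (by norm_num)
    [6, 12] P (by decide +kernel) (by decide +kernel)
  set D := (P : Subgroup G) ⊓ (Q : Subgroup G) with hDdef
  have hD5 : Nat.card D = 5 := by rw [hP25] at hD; omega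
  set X := normalizer (D : Set G) with hXdef
  set N := normalizer ((P : Subgroup G) : Set G) with hNdef
  simp only [List.mem_cons, List.not_mem_nil, or_false] at hmm
  rcases hmm with rfl | rfl
  · have := sylow_number_half (p := 5) (a := 2) (m := 3) (by norm_num) (H := X) (by rw [hX]; norm_num)
      (by norm_num) (by norm_num)
    rw [hXj] at this
    norm_num at this
  have hPX : (P : Subgroup G) ≤ X := le_normalizer_inter hD
  have hNX : Nat.card (N ⊓ X : Subgroup G) = 50 := by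
    have h := SylowLocal.card_eq_mul_inf P hPX
    rw [hX, hXj, ← hNdef] at h
    omega
  -- the centralizer of the intersection is its normalizer
  set C := centralizer (D : Set G) with hCdef
  have hle : ∀ R : Sylow 5 G, D ≤ (R : Subgroup G) → (R : Subgroup G) ≤ C := by
    intro R hDR x hx
    rw [hCdef, mem_centralizer_iff]
    intro y hy
    haveI := hcomm R
    exact congrArg Subtype.val (mul_comm' (⟨y, hDR hy⟩ : (R : Subgroup G)) ⟨x, hx⟩)
  have hPC : (P : Subgroup G) ≤ C := hle P inf_le_left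
  have hQC : (Q : Subgroup G) ≤ C := hle Q inf_le_right
  have hCX : C ≤ X := centralizer_le_normalizer _
  obtain ⟨w, hw⟩ : 25 ∣ Nat.card C := hP25 P ▸ card_dvd_of_le hPC
  have hw12 : w ∣ 12 := by
    have h := card_dvd_of_le hCX
    rw [hX, hw] at h
    exact Nat.dvd_of_mul_dvd_mul_left (by norm_num) h
  have hw5 : ¬ 5 ∣ w := fun h => by
    have := h.trans hw12
    norm_num at this
  have hj'd : Nat.card (Sylow 5 C) ∣ w :=
    card_sylow_dvd_of_card_eq (p := 5) (a := 2) (by rw [hw]; norm_num) hw5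
  have hj'1 : Nat.card (Sylow 5 C) ≠ 1 := by
    intro h1
    haveI := (Nat.card_eq_one_iff_unique.1 h1).1
    exact hQP (Sylow.subtype_injective (Subsingleton.elim (Q.subtype hQC) (P.subtype hPC)))
  have hj' : Nat.card (Sylow 5 C) = 6 ∧ (w = 6 ∨ w = 12) := by
    have hm : Nat.card (Sylow 5 C) % 5 = 1 := mod_eq_one_card_sylow
    have hs : ∀ w ∈ Nat.divisors 12, ∀ j ∈ Nat.divisors w, j % 5 = 1 → j ≠ 1 → j = 6 ∧ (w = 6 ∨ w = 12) := by
      decide +kernel
    exact hs w (Nat.mem_divisors.2 ⟨hw12, by norm_num⟩) _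
      (Nat.mem_divisors.2 ⟨hj'd, fun h => by rw [h] at hw5; exact hw5 (dvd_zero 5)⟩) hm hj'1
  have hCeq : C = X := by
    rcases hj'.2 with rfl | rfl
    · have := sylow_number_half (p := 5) (a := 2) (m := 3) (by norm_num) (H := C) (by rw [hw]; norm_num)
        (by norm_num) (by norm_num)
      rw [hj'.1] at this
      norm_num at this
    · exact eq_of_le_of_card_ge hCX (by rw [hX, hw])
  -- the normalizer of `P`
  have hN100 : Nat.card N = 100 := by
    obtain ⟨k, c, hk, hk1, hkp, hkc, hN, hfac⟩ := sylow_data hG hnG (by norm_num) two_ne_zero P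
    have hd : (50 : ℕ) ∣ Nat.card N := hNX ▸ card_dvd_of_le inf_le_left
    have hs : ∀ k ∈ Nat.divisors 144, k % 5 = 1 → k ≠ 1 → k.factorial % (2 * 3600) = 0 →
        k = 16 ∨ k = 36 := by decide +kernel
    rw [hNdef, hN] at hd ⊢
    rcases hs k (Nat.mem_divisors.2 ⟨⟨c, hkc.symm⟩, by norm_num⟩) hkp hk1
      (Nat.mod_eq_zero_of_dvd (hn ▸ hfac)) with rfl | rfl
    · obtain rfl : c = 9 := by omega
      norm_num at hd
    · obtain rfl : c = 4 := by omega
      rfl
  set H := (N ⊓ X).subgroupOf N with hH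
  have hHidx : H.index = 2 := by
    have h := card_mul_index H
    rw [hH, Nat.card_congr (subgroupOfEquivOfLe (inf_le_left : N ⊓ X ≤ N)).toEquiv, hNX, hN100] at h
    rw [← hH] at h
    omega
  have hHmem : ∀ g : N, g ∈ H ↔ (g : G) ∈ N ⊓ X := fun g => mem_subgroupOf
  obtain ⟨n, hn'⟩ : ∃ n : N, n ∉ H := by
    by_contra hall
    push Not at hall
    have : H = ⊤ := Subgroup.ext fun g => iff_of_true (hall g) (mem_top g)
    rw [this, index_top] at hHidx
    omega
  haveI := normal_of_index_eq_two hHidx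
  obtain ⟨d, hdD, hd1⟩ := (Subgroup.ne_bot_iff_exists_ne_one (H := D)).1
    (fun h => by rw [h, card_bot] at hD5; omega) |> fun ⟨a, ha⟩ => (⟨(a : G), a.2, fun h => ha (Subtype.ext h)⟩ :
      ∃ d : G, d ∈ D ∧ d ≠ 1)
  have hzD : ∀ e ∈ D, e ≠ 1 → zpowers e = D := by
    intro e he he1
    refine eq_of_le_of_card_ge (zpowers_le.2 he) ?_
    have hd : orderOf e ∣ 5 := hD5 ▸ Subgroup.orderOf_dvd_natCard _ he
    rw [Nat.card_zpowers, hD5]
    rcases (Nat.dvd_prime (Fact.out : Nat.Prime 5)).1 hd with h1 | h1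
    · exact absurd (orderOf_eq_one_iff.1 h1) he1
    · exact h1.ge
  set d' := (n : G) * d * (n : G)⁻¹ with hd'
  have hd'P : d' ∈ (P : Subgroup G) := (mem_normalizer_iff.1 n.2 d).1 ((inf_le_left : D ≤ _) hdD)
  have hd'1 : d' ≠ 1 := fun h => hd1 (conj_eq_one_iff.1 h)
  have hd'D : d' ∉ D := by
    intro h
    apply hn'
    rw [hHmem]
    refine Subgroup.mem_inf.2 ⟨n.2, ?_⟩
    have hmap : D.map (MulAut.conj (n : G)).toMonoidHom = D := by
      conv_lhs => rw [← hzD d hdD hd1, MonoidHom.map_zpowers]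
      exact hzD d' h hd'1
    rw [hXdef, mem_normalizer_iff]
    intro y
    constructor
    · intro hy
      rw [← hmap]
      exact ⟨y, hy, rfl⟩
    · intro hy
      rw [← hmap] at hy
      obtain ⟨v, hv, hv'⟩ := hy
      rwa [← (MulAut.conj (n : G)).injective hv']
  have hfixd : ∀ h : N, h ∈ H → Commute (h : G) d := by
    intro h hh
    have h2 : (h : G) ∈ C := hCeq ▸ (Subgroup.mem_inf.1 ((hHmem h).1 hh)).2
    exact (mem_centralizer_iff.1 h2 d hdD).symm
  have hfixd' : ∀ h : N, h ∈ H → Commute (h : G) d' := by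
    intro h hh
    have h1 := hfixd (n⁻¹ * h * n) (Subgroup.Normal.conj_mem' inferInstance h hh n)
    simp only [Subgroup.coe_mul, InvMemClass.coe_inv] at h1
    show (h : G) * d' = d' * h
    calc (h : G) * d' = (n : G) * (((n : G)⁻¹ * h * n) * d) * (n : G)⁻¹ := by rw [hd']; group
      _ = (n : G) * (d * ((n : G)⁻¹ * h * n)) * (n : G)⁻¹ := by rw [h1.eq]
      _ = d' * h := by rw [hd']; group
  haveI := hcomm P
  have hdd' : d' * d = d * d' := congrArg Subtype.val (mul_comm' (⟨d', hd'P⟩ : (P : Subgroup G))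
    ⟨d, (inf_le_left : D ≤ _) hdD⟩)
  set z := d * d' with hz
  have hfixn : Commute (n : G) z := by
    have h2 := hfixd (n * n) (Subgroup.mul_self_mem_of_index_two hHidx n)
    simp only [Subgroup.coe_mul] at h2
    show (n : G) * z = z * n
    calc (n : G) * z = d' * ((n : G) * n * d * ((n : G) * n)⁻¹) * n := by rw [hz, hd']; group
      _ = z * n := by rw [h2.eq, mul_inv_cancel_right, hdd']
  have hzP : z ∈ (P : Subgroup G) := mul_mem ((inf_le_left : D ≤ _) hdD) hd'P
  have hz1 := eq_one_of_central_in_normalizer_of_abelian_sylow (commutator_eq_top_of_simple hG) P hzP (by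
    intro g hg
    by_cases hgH : (⟨g, hg⟩ : N) ∈ H
    · exact ((hfixd _ hgH).mul_right (hfixd' _ hgH)).eq
    · have hm : n⁻¹ * (⟨g, hg⟩ : N) ∈ H := by
        rw [Subgroup.mul_mem_iff_of_index_two hHidx]
        exact iff_of_false (fun h => hn' (by simpa using H.inv_mem h)) hgH
      have h1 := (hfixd _ hm).mul_right (hfixd' _ hm)
      simp only [Subgroup.coe_mul, InvMemClass.coe_inv] at h1
      have h3 := hfixn.mul_left h1
      rw [mul_inv_cancel_left] at h3
      exact h3.eq)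
  exact hd'D (by rw [show d' = d⁻¹ from eq_inv_of_mul_eq_one_right hz1]; exact inv_mem hdD)

end CfsgLib.SmallSimple.Band3640
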