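import Cfsg.Agent.Lib.SmallSimple.Band3640.Tools
import Cfsg.Agent.Lib.SmallGroups.SignedData
import Cfsg.Agent.Lib.SmallGroups.SmallPiece

/-!
The order 1512.
-/

set_option autoImplicit false
set_option linter.style.haveILetI false

namespace CfsgLib.SmallSimple.Band3640

open Subgroup CfsgLib SmallGroups AtMost1092 Band6232 CfsgLib.InvolChar

/-- The possible degrees and values at an element of order seven. -/
def types1512 : List (ℕ × ℤ) :=
  [(2, 2), (6, -1), (8, 1), (9, 2), (12, -2), (27, -1), (36, 1)]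

theorem mem_types1512 : ∀ d ∈ Nat.divisors 1512, ∀ e ∈ [(-2 : ℤ), -1, 1, 2], 2 ≤ d → d * d < 1512 →
    (7 : ℤ) ∣ (d : ℤ) - e → (d, e) ∈ types1512 := by decide +kernel

theorem no_solution1512 : ∀ m ∈ SignedSearch.stage 1512 6 (-1) types1512 0 0 0,
    ∀ c ∈ (Nat.divisors 216).filter (fun c => 6 ∣ c),
      SignedSearch.search 1512 7 (c : ℤ) (SignedSearch.degSq m) m 1 ((1512 : ℕ) : ℤ) 1 1 = false := by
  decide +kernel

variable {G : Type*} [Group G] [Finite G] [IsSimpleGroup G]

theorem ne_1512 (hG : ¬ IsMulCommutative G) : Nat.card G ≠ 1512 := by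
  classical
  intro hn
  haveI := Fintype.ofFinite G
  haveI : Fact (Nat.Prime 7) := ⟨by norm_num⟩
  haveI : Fact (Nat.Prime 2) := ⟨Nat.prime_two⟩
  obtain ⟨P⟩ : Nonempty (Sylow 7 G) := inferInstance
  have hP := card_of_prime (m := 216) (by rw [hn]) (by norm_num) P
  obtain ⟨k, r, u, hmem, hk, hku, hN, hCP⟩ :=
    options (m := 216) hG hn (by norm_num) (by norm_num) P [(36, 2), (36, 3), (36, 6)] (by decide +kernel)
  have h7 := card_centralizer_of_two_three 3 3 (by rw [hn]; norm_num) P hP
  rw [h7] at hCP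
  obtain rfl : u = 1 := by omega
  simp only [List.mem_cons, List.not_mem_nil, or_false, Prod.mk.injEq] at hmem
  have hr : r = 6 := by rcases hmem with ⟨rfl, rfl⟩ | ⟨rfl, rfl⟩ | ⟨rfl, rfl⟩ <;> omega
  subst hr
  obtain ⟨x, hx, hPx⟩ := exists_zpowers_of_card_prime hP
  have hC := Cfsg.Agent.S1001.result 7 3 3 (by norm_num) (by rw [hn]; norm_num) x hx
  have hNx : Nat.card (normalizer ((zpowers x : Subgroup G) : Set G)) = 7 * (7 - 1) := by
    rw [← hPx, hN]
  have hconj : ∀ y ∈ zpowers x, y ≠ 1 → IsConj x y := fun y hy hy1 =>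
    PrimeRational.isConj_of_mem hx hC hNx hy hy1
  choose ee hee using fun χ : Cfsg.IrrCharacter G => PrimeRational.exists_int_value hx hconj χ
  obtain ⟨⟨s, hsN⟩, hs⟩ := exists_prime_orderOf_dvd_card'
    (G := normalizer ((zpowers x : Subgroup G) : Set G)) 2 (by rw [hNx]; norm_num)
  rw [Subgroup.orderOf_mk] at hs
  have hss : s * s = 1 := by rw [← pow_two, ← hs, pow_orderOf_eq_one]
  have hs1 : s ≠ 1 := fun h => by rw [h, orderOf_one] at hs; norm_num at hs
  have hpairs := PrimeOrderChar.card_pairs hx (by norm_num) hC hsN hs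
  set c := Nat.card (centralizer ({s} : Set G)) with hc
  have hc7 : ¬ 7 ∣ c := fun h' => by
    have := SmallPiece.orderOf_dvd_of_prime_dvd_centralizer P hP hx hC h'
    rw [hs] at this
    norm_num at this
  have hc6 : 6 ∣ c := by
    set N := normalizer ((zpowers x : Subgroup G) : Set G) with hNdef
    set s' : N := ⟨s, hsN⟩ with hs'
    have hle : Nat.card {w : N // IsConj s' w} ≤ 7 := by
      refine (Nat.card_le_card_of_injective (fun w => (⟨(s : G)⁻¹ * (w.1 : G), ?_⟩ : zpowers x))
        fun a b e => Subtype.ext (Subtype.ext (mul_left_cancel (congrArg Subtype.val e)))).trans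
          (by rw [Nat.card_zpowers, hx])
      have hwo : orderOf ((w.1 : N) : G) = 2 := by
        obtain ⟨g, hg⟩ := isConj_iff.1 w.2
        rw [Subgroup.orderOf_coe, ← hg, show g * s' * g⁻¹ = MulAut.conj g s' from rfl, MulEquiv.orderOf_eq,
          hs', Subgroup.orderOf_mk, hs]
      have h1 := PrimeOrderChar.inverts hx (by norm_num) hC w.1.2 hwo
      have h2 := PrimeOrderChar.inverts hx (by norm_num) hC hsN hs
      rw [← hC, mem_centralizer_singleton_iff]
      calc s⁻¹ * (w.1 : G) * x = s⁻¹ * ((w.1 : G) * x * (w.1 : G)⁻¹) * (w.1 : G) := by group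
        _ = s⁻¹ * (s * x * s⁻¹) * (w.1 : G) := by rw [h1, h2]
        _ = x * (s⁻¹ * (w.1 : G)) := by group
    rw [CfsgLib.Char.card_isConj_eq_index] at hle
    have hmul := card_mul_index (centralizer ({s'} : Set N))
    rw [hNx] at hmul
    have hinj : Nat.card (centralizer ({s'} : Set N)) ∣ c := by
      rw [hc, ← card_map_of_injective (K := centralizer ({s'} : Set N)) N.subtype_injective]
      refine card_dvd_of_le ?_
      rintro _ ⟨v, hv, rfl⟩
      exact mem_centralizer_singleton_iff.2 (congrArg Subtype.val (mem_centralizer_singleton_iff.1 hv))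
    generalize Nat.card (centralizer ({s'} : Set N)) = a at hmul hinj
    generalize (centralizer ({s'} : Set N)).index = b at hmul hle
    have hd : a ∈ Nat.divisors 42 := Nat.mem_divisors.2 ⟨⟨b, by omega⟩, by norm_num⟩
    have hb : b * a = 42 := by rw [mul_comm]; omega
    have h6 : ∀ a ∈ Nat.divisors 42, ¬ 7 ∣ a → 6 ≤ a → a = 6 := by decide +kernel
    have ha := h6 a hd (fun h => hc7 (h.trans hinj)) (by nlinarith)
    exact ha ▸ hinj
  have hc0 : c ∈ (Nat.divisors 216).filter (fun c => 6 ∣ c) := by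
    rw [Finset.mem_filter, Nat.mem_divisors]
    refine ⟨⟨?_, by norm_num⟩, hc6⟩
    exact (Nat.Coprime.dvd_mul_left
      ((Nat.Prime.coprime_iff_not_dvd (by norm_num)).mpr hc7).symm).mp
        ((card_subgroup_dvd_card _).trans (dvd_of_eq (by rw [hn] : Nat.card G = 7 * 216)))
  have hc216 : c ≤ 216 := Nat.le_of_dvd (by norm_num) (Nat.mem_divisors.mp (Finset.mem_filter.mp hc0).1).1
  have hx1 : x ≠ 1 := fun h => by rw [h, orderOf_one] at hx; norm_num at hx
  have hone : ee CfsgLib.Char.irrOne = 1 := by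
    have h := (hee CfsgLib.Char.irrOne).1
    rw [CfsgLib.Char.irrOne_apply] at h
    exact_mod_cast h.symm
  refine SignedData.false_of_no_solution hG hss hs1 (by omega) ee 1 6 7 types1512 hone ?_ ?_ ?_ ?_ ?_ ?_
  · have h := CfsgLib.Char.second_orthogonality x x
    rw [if_pos (IsConj.refl x), hC, Nat.card_zpowers, hx] at h
    simp only [fun χ => (hee χ).1, map_intCast] at h
    have h2 : ((∑ χ, ee χ ^ 2 : ℤ) : ℂ) = ((1 ^ 2 + 6 : ℤ) : ℂ) := by
      push_cast
      simp only [sq]
      rw [h]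
      norm_num
    exact_mod_cast h2
  · have h := CfsgLib.Char.sum_degree_mul_apply x
    rw [if_neg hx1] at h
    simp only [fun χ => (hee χ).1, fun χ : Cfsg.IrrCharacter G => deg_spec χ] at h
    have h2 : ((∑ χ, ee χ * (deg χ : ℤ) : ℤ) : ℂ) = ((0 : ℤ) : ℂ) := by
      push_cast
      rw [← h]
      exact Finset.sum_congr rfl fun χ _ => mul_comm _ _
    exact_mod_cast h2
  · have h := CfsgLib.Char.second_orthogonality s x
    rw [if_neg (fun hh => by
      have := CfsgLib.Invol.orderOf_eq_of_isConj hh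
      omega)] at h
    simp only [fun χ => (hee χ).1, fun χ : Cfsg.IrrCharacter G => intVal_spec χ hss, map_intCast] at h
    have h2 : ((∑ χ, ee χ * intVal χ hss : ℤ) : ℂ) = ((0 : ℤ) : ℂ) := by
      push_cast
      rw [← h]
      exact Finset.sum_congr rfl fun χ _ => mul_comm _ _
    exact_mod_cast h2
  · have h := pairs_eq_gen s s x _ _ ee (fun χ => intVal_spec χ hss) (fun χ => intVal_spec χ hss)
      (fun χ => (hee χ).1)
    rw [hpairs, ← hc] at h
    rw [← h]
    push_cast
    ring
  · intro χ h0 h4 h2 hd hlt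
    rw [hn] at hd hlt
    refine mem_types1512 _ (Nat.mem_divisors.mpr ⟨hd, by norm_num⟩) _ ?_ h2 hlt (hee χ).2
    have h5 : -2 ≤ ee χ ∧ ee χ ≤ 2 := ⟨by nlinarith, by nlinarith⟩
    simp only [List.mem_cons, List.not_mem_nil, or_false]
    omega
  · intro m hm _
    rw [hn] at hm ⊢
    rw [mul_one]
    exact no_solution1512 m hm c hc0

end CfsgLib.SmallSimple.Band3640
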