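import Cfsg.Agent.Lib.SmallSimple.Band3640.Table
import Cfsg.Agent.Lib.SmallSimple.Band3640.Cases
import Cfsg.Agent.Lib.SmallSimple.Band3640.Inter
import Cfsg.Agent.Lib.SmallSimple.Band3640.Degrees
import Cfsg.Agent.Lib.SmallSimple.Band3640.Signed

/-!
The orders of non-abelian simple groups between 1093 and 3640.
-/

set_option autoImplicit false

namespace CfsgLib.SmallSimple.Band3640

/-- The only possible orders of non-abelian simple groups between 1093 and 3640. -/
theorem card_mem_of_le {G : Type*} [Group G] [Finite G] [IsSimpleGroup G] (h : ¬ IsMulCommutative G)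
    (h1 : 1092 < Nat.card G) (h2 : Nat.card G ≤ 3640) :
    Nat.card G = 2448 ∨ Nat.card G = 2520 ∨ Nat.card G = 3420 := by
  obtain ⟨w, hw⟩ := exists_cert (show 1093 ≤ Nat.card G by omega) (show Nat.card G ≤ 3640 by omega)
  have hm := mem_separate_of_check h hw
  have := ne_1260 (G := G) h
  have := ne_1404 (G := G) h
  have := ne_1512 (G := G) h
  have := ne_1560 (G := G) h
  have := ne_1620 (G := G) h
  have := ne_1680 (G := G) h
  have := ne_1716 (G := G) h
  have := ne_1800 (G := G) h
  have := ne_1980 (G := G) h
  have := ne_2100 (G := G) h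
  have := ne_2160 (G := G) h
  have := ne_2200 (G := G) h
  have := ne_2268 (G := G) h
  have := ne_2400 (G := G) h
  have := ne_2688 (G := G) h
  have := ne_2700 (G := G) h
  have := ne_2940 (G := G) h
  have := ne_3080 (G := G) h
  have := ne_3120 (G := G) h
  have := ne_3168 (G := G) h
  have := ne_3360 (G := G) h
  have := ne_3432 (G := G) h
  have := ne_3528 (G := G) h
  have := ne_3600 (G := G) h
  simp only [separate, List.mem_cons, List.not_mem_nil, or_false] at hm
  omega

end CfsgLib.SmallSimple.Band3640
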