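import Cfsg.Agent.Lib.MTwentyTwoUnique.FromOrder.Setting
import Cfsg.Agent.Lib.SmallGroups.MElevenDegrees.Main

/-!
The principal block at a prime with automizer of order two and the values at an involution.
-/

set_option autoImplicit false
set_option linter.style.haveILetI false
set_option linter.unusedSectionVars false

noncomputable section

namespace CfsgLib.SmallSimple.Band3640

open Subgroup CfsgLib CfsgLib.InvolChar CfsgLib.MTwentyTwoUnique.FromOrder CfsgLib.Blocks.PrimeSylow Cfsg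

/-- No degree, value and number of inverting conjugates for a centralizer of order `C`. -/
def twoOK (n p u C D : ℕ) (cen : Bool) : Bool :=
  (List.range D).all fun d => decide (d < 2) || decide (n % d ≠ 0) ||
    ([1, -1] : List ℤ).all fun δ => decide (((d : ℤ) - δ) % (p : ℤ) ≠ 0) ||
      decide (((d : ℤ) + δ).toNat < 2) || decide (n % ((d : ℤ) + δ).toNat ≠ 0) ||
      decide (n < 1 + d * d + (p - 1) / 2 * (((d : ℤ) + δ).toNat * ((d : ℤ) + δ).toNat)) ||
      (List.range (2 * d)).all fun i =>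
        let v : ℤ := (i : ℤ) - d
        decide (((d : ℤ) - v) % 4 ≠ 0) || decide ((d : ℤ) * d ≤ v * v) ||
          decide ((((n / C : ℕ) : ℤ) * v) % (d : ℤ) ≠ 0) ||
          decide ((C : ℤ) < 1 + v * v + (((p - 1) / 2 : ℕ) : ℤ) * ((1 + δ * v) * (1 + δ * v))) ||
          (cen && decide (((d : ℤ) - v) % (p : ℤ) ≠ 0)) ||
          (List.range (p * u + 1)).all fun A => decide
            ((A : ℤ) * A * ((C : ℤ) * C) ≠ (p : ℤ) * u * ((n : ℤ) + δ * v * v * ((n / d : ℕ) : ℤ) -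
              δ * ((1 + δ * v) * (1 + δ * v)) * ((n / ((d : ℤ) + δ).toNat : ℕ) : ℤ)))

variable {G : Type*} [Group G] [Finite G] [IsSimpleGroup G] {p : ℕ} [hp : Fact p.Prime]

/-- The automizer has order two. -/
theorem relIndex_two {P : Sylow p G} {u : ℕ}
    (hN : Nat.card (normalizer ((P : Subgroup G) : Set G)) = p * (2 * u))
    (hC : Nat.card (centralizer ((P : Subgroup G) : Set G)) = p * u) :
    (centralizer ((P : Subgroup G) : Set G)).relIndex (normalizer ((P : Subgroup G) : Set G)) = 2 := by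
  have h := card_mul_index ((centralizer ((P : Subgroup G) : Set G)).subgroupOf
    (normalizer ((P : Subgroup G) : Set G)))
  rw [Nat.card_congr (subgroupOfEquivOfLe (centralizer_le_normalizer _)).toEquiv, hN, hC] at h
  have h0 : 0 < p * u := hC ▸ Nat.card_pos
  exact Nat.eq_of_mul_eq_mul_left h0 (h.trans (by ring))

set_option maxHeartbeats 800000 in
/-- The search finds the degree, the value and the number of inverting conjugates. -/
theorem false_of_twoOK (hG : ¬ IsMulCommutative G) (P : Sylow p G) (hP : Nat.card (P : Subgroup G) = p)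
    {n u : ℕ} (hnG : Nat.card G = n) (hp5 : 5 ≤ p)
    (hN : Nat.card (normalizer ((P : Subgroup G) : Set G)) = p * (2 * u))
    (hC : Nat.card (centralizer ((P : Subgroup G) : Set G)) = p * u) {t : G} (ht : orderOf t = 2)
    {C D : ℕ} {cen : Bool} (hCt : Nat.card (centralizer ({t} : Set G)) = C)
    (hcen : cen = true → t ∈ centralizer ((P : Subgroup G) : Set G)) (hD : n ≤ D * D)
    (h : twoOK n p u C D cen = true) : False := by
  classical
  haveI := Fintype.ofFinite G
  have ht1 : t ≠ 1 := fun e => by rw [e, orderOf_one] at ht; omega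
  have htt : t * t = 1 := by rw [← pow_two, ← ht, pow_orderOf_eq_one]
  have hp2 : p ≠ 2 := by omega
  obtain ⟨B⟩ := exists_pb P hP 2 (relIndex_two hN hC)
  obtain ⟨h1X, hs1⟩ := B.one_X le_rfl (by omega)
  obtain ⟨χ, hχ⟩ := Finset.card_eq_one.1
    (show (B.X.erase CfsgLib.Char.irrOne).card = 1 by rw [Finset.card_erase_of_mem h1X, B.card_X])
  have hχmem : χ ∈ B.X.erase CfsgLib.Char.irrOne := hχ ▸ Finset.mem_singleton_self χ
  obtain ⟨hχ1, hχX⟩ := Finset.mem_erase.1 hχmem
  obtain ⟨θ, hθ⟩ := B.Y_ne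
  have hθ1 : θ ≠ CfsgLib.Char.irrOne := fun e => Finset.disjoint_left.mp B.disj h1X (e ▸ hθ)
  have hdeg2 : ∀ ψ : IrrCharacter G, ψ ≠ CfsgLib.Char.irrOne → 2 ≤ deg ψ := fun ψ hψ => by
    by_contra hlt
    exact hψ (SmallGroups.MElevenDegrees.eq_irrOne_of_deg_one hG ψ (by have := deg_pos ψ; omega))
  have hsplit : ∀ f : IrrCharacter G → ℤ, ∑ ψ ∈ B.X, f ψ = f CfsgLib.Char.irrOne + f χ := fun f => by
    rw [← Finset.add_sum_erase _ _ h1X, hχ, Finset.sum_singleton]
  obtain ⟨r, hr, hrel⟩ := B.exists_val hp2 htt ht1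
  set d := deg χ with hd
  set v := intVal χ htt with hv
  set δ := B.s χ with hδ
  have hδ2 : δ = 1 ∨ δ = -1 := B.s_sq χ hχX
  have hd2 : 2 ≤ d := hdeg2 χ hχ1
  have hdf := B.deg_rel hθ
  rw [hsplit, hs1, deg_irrOne, ← hd, ← hδ] at hdf
  push_cast at hdf
  rw [hsplit, hs1, intVal_irrOne, mul_one, ← hv, ← hδ] at hrel
  have hεδ : B.ε = δ := by
    have hd2' : (2 : ℤ) ≤ d := by exact_mod_cast hd2
    have hf0 : (0 : ℤ) ≤ B.f := Int.natCast_nonneg _
    rcases B.ε_sq with e | e <;> rcases hδ2 with e' | e' <;> rw [e, e'] at hdf ⊢ <;> omega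
  have hfv : (B.f : ℤ) = (d : ℤ) + δ := by
    rw [hεδ] at hdf
    rcases hδ2 with e' | e' <;> rw [e'] at hdf ⊢ <;> omega
  have hf : ((d : ℤ) + δ).toNat = B.f := by rw [← hfv, Int.toNat_natCast]
  have hrv : B.ε * r * r = δ * ((1 + δ * v) * (1 + δ * v)) := by
    rw [← hrel, hεδ]
    rcases hδ2 with e' | e' <;> rw [e'] <;> ring
  have hrr : r * r = (1 + δ * v) * (1 + δ * v) := by
    rw [← hrel, hεδ]
    rcases hδ2 with e' | e' <;> rw [e'] <;> ring
  have hdn : d ∣ n := hnG ▸ CfsgLib.Char.degree_dvd_card χ.2 (deg_spec χ)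
  have hfn : B.f ∣ n := B.deg_Y θ hθ ▸ hnG ▸ CfsgLib.Char.degree_dvd_card θ.2 (deg_spec θ)
  have hnorm := B.norm_le htt
  rw [hsplit, intVal_irrOne, one_mul, Finset.sum_congr rfl (s₁ := B.Y) fun ψ hψ => by rw [hr ψ hψ],
    Finset.sum_const, B.card_Y, nsmul_eq_mul, hrr, hCt, ← hv] at hnorm
  have hsum : 1 + d * d + (p - 1) / 2 * (B.f * B.f) ≤ n := by
    have h0 := CfsgLib.Char.sum_degree_sq (G := G)
    simp only [deg_spec, hnG, pow_two] at h0
    have h1 : ∑ ψ : IrrCharacter G, deg ψ * deg ψ = n := by exact_mod_cast h0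
    have h2 := h1 ▸ Finset.sum_le_sum_of_subset (f := fun ψ : IrrCharacter G => deg ψ * deg ψ)
      (Finset.subset_univ (B.X ∪ B.Y))
    rw [Finset.sum_union B.disj, ← Finset.add_sum_erase _ _ h1X, hχ, Finset.sum_singleton, deg_irrOne,
      Finset.sum_congr rfl (s₁ := B.Y) fun ψ hψ => by rw [B.deg_Y ψ hψ], Finset.sum_const, B.card_Y,
      smul_eq_mul, one_mul, ← hd] at h2
    omega
  have hlt : v * v < (d : ℤ) * d := MTwelveUnique.sq_lt_deg_sq hG χ hχ1 ht1 (intVal_spec χ htt)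
  have hmod := MTwelveUnique.deg_dvd_index_mul χ (intVal_spec χ htt) hCt
  rw [hnG, ← hv, ← hd] at hmod
  have h4 : (4 : ℤ) ∣ (d : ℤ) - v :=
    SmallGroups.PrimeRational.four_dvd_deg_sub (SmallGroups.PrimeOrderChar.linear_trivial (G := G) hG) χ htt
  have hu : (reg P).card = u := by
    have := card_centralizer_eq P hP
    rw [hC] at this
    exact (Nat.eq_of_mul_eq_mul_left hp.out.pos this).symm
  have hcount := B.count_eq P hP hp2 htt r hr
  rw [PB.sg, hsplit, hs1, deg_irrOne, intVal_irrOne, Nat.div_one, hnG, hCt, hu, hrv, ← hd, ← hv, ← hδ,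
    one_mul, one_mul, ← hf] at hcount
  set A := (invSet (pw P hP 1) t).card with hA
  have hAle : A ≤ p * u := by
    rcases (invSet (pw P hP 1) t).eq_empty_or_nonempty with he | ⟨a₀, ha₀⟩
    · rw [hA, he, Finset.card_empty]; exact Nat.zero_le _
    rw [← hC, hA, Nat.card_eq_fintype_card (α := centralizer ((P : Subgroup G) : Set G))]
    have hx : ∀ a ∈ invSet (pw P hP 1) t, a₀⁻¹ * a ∈ centralizer ((P : Subgroup G) : Set G) := by
      intro a ha
      rw [← centralizer_pw P hP (one_ne_zero : (1 : ZMod p) ≠ 0), mem_centralizer_singleton_iff,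
        ← mul_inv_eq_iff_eq_mul]
      calc a₀⁻¹ * a * pw P hP 1 * (a₀⁻¹ * a)⁻¹ = a₀⁻¹ * (a * pw P hP 1 * a⁻¹) * a₀ := by group
        _ = a₀⁻¹ * (a₀ * pw P hP 1 * a₀⁻¹) * a₀ := by rw [(mem_invSet.1 ha).2, (mem_invSet.1 ha₀).2]
        _ = pw P hP 1 := by group
    rw [← Fintype.card_coe]
    exact Fintype.card_le_of_injective (fun a => ⟨a₀⁻¹ * a.1, hx a.1 a.2⟩)
      fun a b e => Subtype.ext (mul_left_cancel (congrArg Subtype.val e))
  have hdD : d < D := by
    by_contra hc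
    have h0 : D * D ≤ d * d := Nat.mul_le_mul (not_lt.1 hc) (not_lt.1 hc)
    omega
  have hvb : -(d : ℤ) < v ∧ v < (d : ℤ) := ⟨by nlinarith, by nlinarith⟩
  simp only [twoOK, List.all_eq_true, List.mem_range, Bool.or_eq_true, Bool.and_eq_true,
    decide_eq_true_eq] at h
  rcases h d hdD with (h1 | h1) | h1
  · omega
  · exact h1 (Nat.mod_eq_zero_of_dvd hdn)
  have hpd : (p : ℤ) ∣ (d : ℤ) - δ := B.deg_X χ hχX
  rcases h1 δ (by rcases hδ2 with e' | e' <;> simp [e']) with (((h2 | h2) | h2) | h2) | h2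
  · exact h2 (Int.emod_eq_zero_of_dvd hpd)
  · rw [hf] at h2
    have := B.deg_Y θ hθ ▸ hdeg2 θ hθ1
    omega
  · rw [hf] at h2
    exact h2 (Nat.mod_eq_zero_of_dvd hfn)
  · rw [hf] at h2
    omega
  have hi : (((v + d).toNat : ℕ) : ℤ) - d = v := by rw [Int.toNat_of_nonneg (by omega)]; ring
  have h3 := h2 (v + d).toNat (by omega)
  simp only [hi] at h3
  rcases h3 with ((((h3 | h3) | h3) | h3) | ⟨h3, h4'⟩) | h3
  · exact h3 (Int.emod_eq_zero_of_dvd h4)
  · omega
  · exact h3 hmod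
  · linarith
  · exact h4' (Int.emod_eq_zero_of_dvd
      (dvd_sub_comm.1 (B.congr hp2 χ (Finset.mem_union_left _ hχX) t htt ht1 (hcen h3))))
  · exact h3 A (Nat.lt_succ_of_le hAle) (by rw [one_mul] at hcount; exact hcount)

/-- The possible degrees alone leave nothing. -/
theorem false_of_twoOK_any (hG : ¬ IsMulCommutative G) (P : Sylow p G) (hP : Nat.card (P : Subgroup G) = p)
    {n u : ℕ} (hnG : Nat.card G = n) (hn2 : 2 ∣ n) (hp5 : 5 ≤ p)
    (hN : Nat.card (normalizer ((P : Subgroup G) : Set G)) = p * (2 * u))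
    (hC : Nat.card (centralizer ((P : Subgroup G) : Set G)) = p * u) {D : ℕ} (hD : n ≤ D * D)
    (h : ∀ C ∈ Nat.divisors n, twoOK n p u C D false = true) : False := by
  haveI : Fact (Nat.Prime 2) := ⟨Nat.prime_two⟩
  obtain ⟨t, ht⟩ := exists_prime_orderOf_dvd_card' (G := G) 2 (hnG ▸ hn2)
  exact false_of_twoOK hG P hP hnG hp5 hN hC ht rfl (fun e => by simp at e) hD
    (h _ (Nat.mem_divisors.2 ⟨hnG ▸ card_subgroup_dvd_card _, hnG ▸ Nat.card_pos.ne'⟩))

end CfsgLib.SmallSimple.Band3640
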