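import Cfsg.Agent.Lib.SmallSimple.Band6232.Check

/-!
A decidable test excluding orders between 1093 and 3640, and its soundness.
-/

set_option autoImplicit false

namespace CfsgLib.SmallSimple.Band3640

open AtMost1092 (exceptional_of_check isExceptional not_two_primes)
open Band6232 (Cert isPrimeBand prime_of_isPrimeBand)

/-- The orders that occur or are treated separately. -/
def separate : List ℕ := [1260, 1404, 1512, 1560, 1620, 1680, 1716, 1800, 1980, 2100, 2160, 2200, 2268, 2400, 2448, 2520, 2688, 2700, 2940, 3080, 3120, 3168, 3360, 3420, 3432, 3528, 3600]

/-- The test. -/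
def check (n : ℕ) : Cert → Bool
  | .skip => separate.contains n
  | .old w => decide (1092 < n) && AtMost1092.check n w
  | .two p a q b => isPrimeBand p && isPrimeBand q && decide (n = p ^ a * q ^ b)

/-- The test along a list. -/
def checkFrom : ℕ → List Cert → Bool
  | _, [] => true
  | n, w :: l => check n w && checkFrom (n + 1) l

theorem exists_of_checkFrom {l : List Cert} {s n : ℕ} (h : checkFrom s l = true) (h1 : s ≤ n)
    (h2 : n < s + l.length) : ∃ w, check n w = true := by
  induction l generalizing s with
  | nil => simp at h2; omega
  | cons w l ih =>
    simp only [checkFrom, Bool.and_eq_true] at h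
    rcases Nat.eq_or_lt_of_le h1 with rfl | hlt
    · exact ⟨w, h.1⟩
    · exact ih h.2 hlt (by simp at h2; omega)

variable {G : Type*} [Group G] [Finite G] [IsSimpleGroup G]

/-- Soundness of the test. -/
theorem mem_separate_of_check (hG : ¬ IsMulCommutative G) {w : Cert}
    (h : check (Nat.card G) w = true) : Nat.card G ∈ separate := by
  cases w with
  | skip => exact List.contains_iff_mem.1 h
  | old w =>
    simp only [check, Bool.and_eq_true, decide_eq_true_eq] at h
    have h1 := exceptional_of_check hG h.2
    simp only [isExceptional, List.contains_iff_mem, List.mem_cons, List.not_mem_nil, or_false] at h1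
    omega
  | two p a q b =>
    simp only [check, Bool.and_eq_true, decide_eq_true_eq] at h
    exact (not_two_primes hG (prime_of_isPrimeBand h.1.1) (prime_of_isPrimeBand h.1.2) h.2).elim

end CfsgLib.SmallSimple.Band3640
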