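import Cfsg.Agent.Lib.SmallSimple.Band3640.Check

/-!
A certificate for each order from 1093 to 3640.
-/

set_option autoImplicit false

namespace CfsgLib.SmallSimple.Band3640

open Band6232 (Cert)

/-- Certificates from 1093 on. -/
def band0 : List Cert := [.two 1093 1 2 0, .two 2 1 547 1, .old (.least 3), .two 2 3 137 1, .two 1097 1 2 0, .old (.least 2), .two 7 1 157 1, .old (.least 2), .two 3 1 367 1, .old (.least 2), .two 1103 1 2 0, .old (.sylow 23 1 48 2 4 3 1), .old (.least 5), .old (.least 2), .two 3 3 41 1, .two 2 2 277 1, .two 1109 1 2 0, .old (.least 2), .two 11 1 101 1, .two 2 3 139 1, .old (.least 3), .two 2 1 557 1, .two 5 1 223 1, .old (.sylow 31 1 36 2 2 3 2), .two 1117 1 2 0, .old (.least 2), .two 3 1 373 1, .old (.sylow 7 1 160 2 5 5 1), .two 19 1 59 1, .old (.least 2), .two 1123 1 2 0, .two 2 2 281 1, .two 3 2 5 3, .two 2 1 563 1, .two 7 2 23 1, .old (.sylow 3 1 376 2 3 47 1), .two 1129 1 2 0, .old (.least 2), .old (.least 3), .two 2 2 283 1, .two 11 1 103 1, .old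 (.least 2), .two 5 1 227 1, .two 2 4 71 1, .two 3 1 379 1, .two 2 1 569 1, .two 17 1 67 1, .old (.sylow 5 1 228 2 0 2 0), .two 7 1 163 1, .two 2 1 571 1, .two 3 2 127 1, .old (.sylow 11 1 104 2 3 13 1), .two 5 1 229 1, .old (.least 2), .two 31 1 37 1, .old (.least 2), .two 3 1 383 1, .old (.least 2), .two 1151 1 2 0, .two 2 7 3 2, .two 1153 1 2 0, .two 2 1 577 1, .old (.least 3), .two 2 2 17 2, .two 13 1 89 1, .old (.least 2), .two 19 1 61 1, .old (.sylow 29 1 40 2 3 5 1), .two 3 3 43 1, .old (.least 2), .two 1163 1 2 0, .old (.sylow 3 1 388 2 2 97 1), .two 5 1 233 1, .old (.least 2), .two 3 1 389 1, .two 2 4 73 1, .two 7 1 167 1, .old (.least 2), .two 1171 1 2 0, .two 2 2 293 1, .old (.least 3), .two 2 1 587 1, .two 5 2 47 1, .old (.sylow 7 2 24 2 3 3 1), .two 11 1 107 1, .old (.least 2), .two 3 2 131 1, .old (.least 2), .two 1181 1 2 0, .old (.least 2), .two 7 1 13 2]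

theorem band0_ok : checkFrom 1093 band0 = true := by decide +kernel

theorem band0_length : band0.length = 91 := rfl

/-- Certificates from 1184 on. -/
def band1 : List Cert := [.two 2 5 37 1, .old (.least 3), .two 2 1 593 1, .two 1187 1 2 0, .old (.sylow 11 1 108 2 2 3 3), .two 29 1 41 1, .old (.least 2), .two 3 1 397 1, .two 2 3 149 1, .two 1193 1 2 0, .old (.least 2), .two 5 1 239 1, .old (.least 2), .old (.least 3), .two 2 1 599 1, .two 11 1 109 1, .old (.sylow 3 1 400 2 4 5 2), .two 1201 1 2 0, .two 2 1 601 1, .two 3 1 401 1, .old (.least 2), .two 5 1 241 1, .old (.least 2), .two 17 1 71 1, .two 2 3 151 1, .old (.least 3), .old (.least 2), .two 7 1 173 1, .old (.sylow 101 1 12 2 2 3 1), .two 1213 1 2 0, .two 2 1 607 1, .two 3 5 5 1, .two 2 6 19 1, .two 1217 1 2 0, .old (.least 2), .two 23 1 53 1, .old (.least 2), .old (.least 3), .old (.least 2), .two 1223 1 2 0, .old (.sylow 17 1 72 2 3 3 2), .two 5 2 7 2, .two 2 1 613 1, .two 3 1 409 1, .two 2 2 307 1, .two 1229 1 2 0, .old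 (.least 2), .two 1231 1 2 0, .old (.sylow 7 1 176 2 4 11 1), .two 3 2 137 1, .two 2 1 617 1, .old (.least 5), .old (.sylow 3 1 412 2 2 103 1), .two 1237 1 2 0, .two 2 1 619 1, .old (.least 3), .old (.sylow 5 1 248 2 3 31 1), .two 17 1 73 1, .old (.least 2), .two 11 1 113 1, .two 2 2 311 1, .old (.least 3), .old (.least 2), .two 29 1 43 1, .old (.sylow 13 1 96 2 5 3 1), .two 1249 1 2 0, .two 2 1 5 4, .two 3 2 139 1, .two 2 2 313 1, .two 7 1 179 1, .old (.least 2), .two 5 1 251 1, .two 2 3 157 1, .two 3 1 419 1, .old (.least 2), .two 1259 1 2 0, .skip, .two 13 1 97 1, .two 2 1 631 1, .two 3 1 421 1, .two 2 4 79 1, .old (.least 5), .old (.least 2), .two 7 1 181 1, .two 2 2 317 1, .two 3 3 47 1, .old (.least 2), .two 31 1 41 1, .old (.sylow 3 1 424 2 3 53 1), .two 19 1 67 1, .old (.least 2)]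

theorem band1_ok : checkFrom 1184 band1 = true := by decide +kernel

theorem band1_length : band1.length = 91 := rfl

/-- Certificates from 1275 on. -/
def band2 : List Cert := [.old (.least 3), .old (.least 2), .two 1277 1 2 0, .old (.least 2), .two 1279 1 2 0, .two 2 8 5 1, .old (.least 3), .two 2 1 641 1, .two 1283 1 2 0, .old (.sylow 107 1 12 2 2 3 1), .two 5 1 257 1, .two 2 1 643 1, .old (.least 3), .old (.sylow 23 1 56 2 3 7 1), .two 1289 1 2 0, .old (.least 2), .two 1291 1 2 0, .old (.least 2), .two 3 1 431 1, .two 2 1 647 1, .old (.least 5), .two 2 4 3 4, .two 1297 1 2 0, .old (.least 2), .two 3 1 433 1, .old (.least 2), .two 1301 1 2 0, .old (.least 2), .two 1303 1 2 0, .two 2 3 163 1, .old (.least 3), .two 2 1 653 1, .two 1307 1 2 0, .old (.sylow 3 1 436 2 2 109 1), .old (.least 7), .old (.least 2), .old (.least 3), .two 2 5 41 1, .two 13 1 101 1, .old (.least 2), .two 5 1 263 1, .old (.least 2), .two 3 1 439 1, .two 2 1 659 1, .two 1319 1 2 0, .old (.sylow 11 1 120 2 0 2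 0), .two 1321 1 2 0, .two 2 1 661 1, .two 3 3 7 2, .two 2 2 331 1, .two 5 2 53 1, .old (.least 2), .two 1327 1 2 0, .two 2 4 83 1, .two 3 1 443 1, .old (.least 2), .two 11 3 2 0, .old (.sylow 37 1 36 2 2 3 2), .two 31 1 43 1, .old (.least 2), .old (.least 3), .two 2 3 167 1, .two 7 1 191 1, .old (.least 2), .two 13 1 103 1, .old (.least 2), .two 3 2 149 1, .old (.least 2), .two 17 1 79 1, .old (.sylow 3 1 448 2 6 7 1), .two 5 1 269 1, .two 2 1 673 1, .two 3 1 449 1, .two 2 2 337 1, .two 19 1 71 1, .old (.least 2), .two 7 1 193 1, .two 2 3 13 2, .old (.least 3), .two 2 1 677 1, .two 5 1 271 1, .old (.sylow 113 1 12 2 2 3 1), .two 23 1 59 1, .old (.least 2), .two 3 2 151 1, .old (.sylow 17 1 80 2 4 5 1), .two 1361 1 2 0, .old (.least 2), .two 29 1 47 1, .old (.least 2), .old (.least 3)]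

theorem band2_ok : checkFrom 1275 band2 = true := by decide +kernel

theorem band2_length : band2.length = 91 := rfl

/-- Certificates from 1366 on. -/
def band3 : List Cert := [.two 2 1 683 1, .two 1367 1 2 0, .old (.sylow 19 1 72 2 3 3 2), .two 37 2 2 0, .old (.least 2), .two 3 1 457 1, .two 2 2 7 3, .two 1373 1 2 0, .old (.least 2), .two 5 3 11 1, .two 2 5 43 1, .two 3 4 17 1, .old (.least 2), .two 7 1 197 1, .old (.sylow 23 1 60 2 0 2 0), .two 1381 1 2 0, .two 2 1 691 1, .two 3 1 461 1, .two 2 3 173 1, .two 5 1 277 1, .old (.least 2), .two 19 1 73 1, .two 2 2 347 1, .two 3 1 463 1, .old (.least 2), .two 13 1 107 1, .old (.sylow 29 1 48 2 4 3 1), .two 7 1 199 1, .old (.least 2), .old (.least 3), .two 2 2 349 1, .two 11 1 127 1, .old (.least 2), .two 1399 1 2 0, .old (.sylow 5 2 56 2 3 7 1), .two 3 1 467 1, .two 2 1 701 1, .two 23 1 61 1, .skip, .two 5 1 281 1, .old (.least 2), .old (.least 3), .two 2 7 11 1, .two 1409 1 2 0, .old (.least 2), .two 17 1 83 1, .two 2 2 353 1, .two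 3 2 157 1, .old (.least 2), .two 5 1 283 1, .old (.sylow 3 1 472 2 3 59 1), .two 13 1 109 1, .two 2 1 709 1, .old (.least 3), .old (.least 2), .two 7 2 29 1, .old (.least 2), .two 1423 1 2 0, .two 2 4 89 1, .old (.least 3), .old (.least 2), .two 1427 1 2 0, .old (.sylow 7 1 204 2 0 2 0), .two 1429 1 2 0, .old (.least 2), .two 3 3 53 1, .two 2 3 179 1, .two 1433 1 2 0, .old (.least 2), .old (.least 5), .two 2 2 359 1, .two 3 1 479 1, .two 2 1 719 1, .two 1439 1 2 0, .old (.sylow 5 1 288 2 5 3 2), .two 11 1 131 1, .old (.least 2), .old (.least 3), .two 2 2 19 2, .two 5 1 17 2, .old (.least 2), .two 1447 1 2 0, .two 2 3 181 1, .old (.least 3), .old (.least 2), .two 1451 1 2 0, .old (.sylow 3 1 484 2 2 11 2), .two 1453 1 2 0, .two 2 1 727 1, .old (.least 3), .old (.sylow 7 1 208 2 4 13 1)]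

theorem band3_ok : checkFrom 1366 band3 = true := by decide +kernel

theorem band3_length : band3.length = 91 := rfl

/-- Certificates from 1457 on. -/
def band4 : List Cert := [.two 31 1 47 1, .two 2 1 3 6, .two 1459 1 2 0, .old (.least 2), .two 3 1 487 1, .old (.least 2), .old (.least 7), .old (.sylow 61 1 24 2 3 3 1), .two 5 1 293 1, .two 2 1 733 1, .two 3 2 163 1, .two 2 2 367 1, .two 13 1 113 1, .old (.least 2), .two 1471 1 2 0, .two 2 6 23 1, .two 3 1 491 1, .old (.least 2), .two 5 2 59 1, .old (.sylow 41 1 36 2 2 3 2), .two 7 1 211 1, .two 2 1 739 1, .old (.least 3), .old (.sylow 5 1 296 2 3 37 1), .two 1481 1 2 0, .old (.least 2), .two 1483 1 2 0, .old (.least 2), .old (.sylow 5 1 297 3 3 11 1), .two 2 1 743 1, .two 1487 1 2 0, .old (.sylow 3 1 496 2 4 31 1), .two 1489 1 2 0, .old (.least 2), .old (.least 3), .two 2 2 373 1, .two 1493 1 2 0, .old (.least 2), .old (.least 5), .old (.sylow 11 1 136 2 3 17 1), .two 3 1 499 1, .old (.least 2), .two 1499 1 2 0, .old (.sylow 5 3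 12 2 2 3 1), .two 19 1 79 1, .two 2 1 751 1, .two 3 2 167 1, .two 2 5 47 1, .old (.least 5), .old (.least 2), .two 11 1 137 1, .old (.least 2), .two 3 1 503 1, .old (.least 2), .two 1511 1 2 0, .skip, .two 17 1 89 1, .two 2 1 757 1, .old (.least 3), .two 2 2 379 1, .two 37 1 41 1, .old (.least 2), .two 7 2 31 1, .old (.sylow 19 1 80 2 4 5 1), .two 3 2 13 2, .two 2 1 761 1, .two 1523 1 2 0, .old (.sylow 3 1 508 2 2 127 1), .two 5 2 61 1, .old (.least 2), .two 3 1 509 1, .two 2 3 191 1, .two 11 1 139 1, .old (.least 2), .two 1531 1 2 0, .two 2 2 383 1, .old (.least 3), .old (.least 2), .two 5 1 307 1, .two 2 9 3 1, .two 29 1 53 1, .two 2 1 769 1, .two 3 4 19 1, .old (.least 2), .two 23 1 67 1, .old (.least 2), .two 1543 1 2 0, .two 2 3 193 1, .old (.least 3), .two 2 1 773 1, .old (.least 7)]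

theorem band4_ok : checkFrom 1457 band4 = true := by decide +kernel

theorem band4_length : band4.length = 91 := rfl

/-- Certificates from 1548 on. -/
def band5 : List Cert := [.old (.sylow 43 1 36 2 2 3 2), .two 1549 1 2 0, .old (.least 2), .old (.least 3), .two 2 4 97 1, .two 1553 1 2 0, .old (.least 2), .two 5 1 311 1, .two 2 2 389 1, .two 3 2 173 1, .old (.least 2), .two 1559 1 2 0, .skip, .two 7 1 223 1, .old (.least 2), .two 3 1 521 1, .old (.least 2), .two 5 1 313 1, .old (.least 2), .two 1567 1 2 0, .two 2 5 7 2, .two 3 1 523 1, .old (.least 2), .two 1571 1 2 0, .old (.sylow 131 1 12 2 2 3 1), .two 11 2 13 1, .two 2 1 787 1, .old (.least 3), .two 2 3 197 1, .two 19 1 83 1, .old (.least 2), .two 1579 1 2 0, .old (.least 2), .old (.least 3), .old (.least 2), .two 1583 1 2 0, .old (.sylow 11 1 144 2 4 3 2), .two 5 1 317 1, .old (.least 2), .two 3 1 23 2, .two 2 2 397 1, .two 7 1 227 1, .old (.least 2), .two 37 1 43 1, .two 2 3 199 1, .two 3 3 59 1, .two 2 1 797 1, .old (.least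 5), .old (.sylow 19 1 84 2 0 2 0), .two 1597 1 2 0, .old (.least 2), .old (.least 3), .two 2 6 5 2, .two 1601 1 2 0, .old (.least 2), .two 7 1 229 1, .two 2 2 401 1, .old (.least 3), .old (.least 2), .two 1607 1 2 0, .old (.sylow 67 1 24 2 3 3 1), .two 1609 1 2 0, .old (.least 2), .two 3 2 179 1, .old (.least 2), .two 1613 1 2 0, .old (.least 2), .old (.least 5), .two 2 4 101 1, .old (.least 3), .two 2 1 809 1, .two 1619 1 2 0, .skip, .two 1621 1 2 0, .two 2 1 811 1, .two 3 1 541 1, .old (.sylow 7 1 232 2 3 29 1), .two 5 3 13 1, .old (.least 2), .two 1627 1 2 0, .old (.least 2), .two 3 2 181 1, .old (.least 2), .two 7 1 233 1, .old (.sylow 3 1 544 2 5 17 1), .two 23 1 71 1, .old (.least 2), .old (.least 3), .two 2 2 409 1, .two 1637 1 2 0, .old (.least 2)]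

theorem band5_ok : checkFrom 1548 band5 = true := by decide +kernel

theorem band5_length : band5.length = 91 := rfl

/-- Certificates from 1639 on. -/
def band6 : List Cert := [.two 11 1 149 1, .old (.sylow 5 1 328 2 3 41 1), .two 3 1 547 1, .two 2 1 821 1, .two 31 1 53 1, .old (.sylow 137 1 12 2 2 3 1), .old (.least 5), .two 2 1 823 1, .two 3 3 61 1, .two 2 4 103 1, .two 17 1 97 1, .old (.least 2), .two 13 1 127 1, .old (.least 2), .old (.least 3), .two 2 1 827 1, .two 5 1 331 1, .old (.sylow 23 1 72 2 3 3 2), .two 1657 1 2 0, .two 2 1 829 1, .old (.least 3), .old (.least 2), .two 11 1 151 1, .old (.least 2), .two 1663 1 2 0, .two 2 7 13 1, .old (.least 3), .old (.least 2), .two 1667 1 2 0, .old (.sylow 3 1 556 2 2 139 1), .two 1669 1 2 0, .old (.least 2), .two 3 1 557 1, .old (.sylow 11 1 152 2 3 19 1), .two 7 1 239 1, .old (.least 2), .two 5 2 67 1, .two 2 2 419 1, .old (.least 3), .two 2 1 839 1, .two 23 1 73 1, .skip, .two 41 2 2 0, .two 2 1 29 2, .old (.least 3), .two 2 2 421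 1, .two 5 1 337 1, .old (.least 2), .two 7 1 241 1, .two 2 3 211 1, .two 3 1 563 1, .old (.least 2), .two 19 1 89 1, .old (.sylow 47 1 36 2 2 3 2), .two 1693 1 2 0, .old (.least 2), .old (.least 3), .two 2 5 53 1, .two 1697 1 2 0, .old (.least 2), .two 1699 1 2 0, .old (.least 2), .two 3 5 7 1, .old (.least 2), .two 13 1 131 1, .old (.sylow 3 1 568 2 3 71 1), .old (.least 5), .two 2 1 853 1, .two 3 1 569 1, .old (.least 2), .two 1709 1 2 0, .old (.least 2), .two 29 1 59 1, .two 2 4 107 1, .two 3 1 571 1, .two 2 1 857 1, .two 5 1 7 3, .skip, .two 17 1 101 1, .two 2 1 859 1, .two 3 2 191 1, .old (.sylow 43 1 40 2 3 5 1), .two 1721 1 2 0, .old (.least 2), .two 1723 1 2 0, .two 2 2 431 1, .old (.least 3), .two 2 1 863 1, .two 11 1 157 1, .two 2 6 3 3, .old (.least 7)]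

theorem band6_ok : checkFrom 1639 band6 = true := by decide +kernel

theorem band6_length : band6.length = 91 := rfl

/-- Certificates from 1730 on. -/
def band7 : List Cert := [.old (.least 2), .two 3 1 577 1, .two 2 2 433 1, .two 1733 1 2 0, .old (.least 2), .two 5 1 347 1, .old (.sylow 7 1 248 2 3 31 1), .two 3 2 193 1, .old (.least 2), .two 37 1 47 1, .old (.sylow 5 1 348 2 0 2 0), .two 1741 1 2 0, .old (.least 2), .old (.least 3), .two 2 4 109 1, .two 5 1 349 1, .old (.least 2), .two 1747 1 2 0, .old (.least 2), .old (.least 3), .old (.least 2), .two 17 1 103 1, .old (.sylow 73 1 24 2 3 3 1), .two 1753 1 2 0, .two 2 1 877 1, .old (.sylow 5 1 351 3 3 13 1), .two 2 2 439 1, .two 7 1 251 1, .old (.least 2), .two 1759 1 2 0, .old (.sylow 11 1 160 2 5 5 1), .two 3 1 587 1, .two 2 1 881 1, .two 41 1 43 1, .old (.sylow 7 2 36 2 2 3 2), .two 5 1 353 1, .two 2 1 883 1, .old (.least 3), .old (.sylow 13 1 136 2 3 17 1), .two 29 1 61 1, .old (.least 2), .old (.least 7), .two 2 2 443 1, .two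 3 2 197 1, .two 2 1 887 1, .two 5 2 71 1, .old (.sylow 3 1 592 2 4 37 1), .two 1777 1 2 0, .old (.least 2), .two 3 1 593 1, .old (.least 2), .two 13 1 137 1, .old (.least 2), .two 1783 1 2 0, .two 2 3 223 1, .old (.least 3), .old (.least 2), .two 1787 1 2 0, .old (.sylow 149 1 12 2 2 3 1), .two 1789 1 2 0, .old (.least 2), .two 3 2 199 1, .two 2 8 7 1, .two 11 1 163 1, .old (.least 2), .two 5 1 359 1, .two 2 2 449 1, .two 3 1 599 1, .old (.least 2), .two 7 1 257 1, .skip, .two 1801 1 2 0, .old (.least 2), .two 3 1 601 1, .old (.least 2), .two 5 1 19 2, .old (.least 2), .two 13 1 139 1, .two 2 4 113 1, .two 3 3 67 1, .old (.least 2), .two 1811 1 2 0, .old (.sylow 3 1 604 2 2 151 1), .two 7 2 37 1, .two 2 1 907 1, .old (.least 3), .two 2 3 227 1, .two 23 1 79 1, .old (.least 2), .two 17 1 107 1, .old (.least 2)]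

theorem band7_ok : checkFrom 1730 band7 = true := by decide +kernel

theorem band7_length : band7.length = 91 := rfl

/-- Certificates from 1821 on. -/
def band8 : List Cert := [.two 3 1 607 1, .two 2 1 911 1, .two 1823 1 2 0, .old (.sylow 19 1 96 2 5 3 1), .two 5 2 73 1, .old (.least 2), .old (.least 3), .two 2 2 457 1, .two 31 1 59 1, .old (.least 2), .two 1831 1 2 0, .two 2 3 229 1, .old (.least 3), .old (.least 2), .two 5 1 367 1, .old (.sylow 17 1 108 2 2 3 3), .two 11 1 167 1, .two 2 1 919 1, .two 3 1 613 1, .old (.sylow 5 1 368 2 4 23 1), .two 7 1 263 1, .old (.least 2), .two 19 1 97 1, .two 2 2 461 1, .old (.least 3), .old (.least 2), .two 1847 1 2 0, .old (.sylow 11 1 168 2 0 2 0), .two 43 2 2 0, .old (.least 2), .two 3 1 617 1, .two 2 2 463 1, .two 17 1 109 1, .old (.least 2), .old (.least 5), .two 2 6 29 1, .two 3 1 619 1, .two 2 1 929 1, .two 11 1 13 2, .old (.sylow 31 1 60 2 0 2 0), .two 1861 1 2 0, .old (.least 2), .two 3 4 23 1, .two 2 3 233 1, .two 5 1 373 1, .old (.least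 2), .two 1867 1 2 0, .two 2 2 467 1, .old (.least 3), .old (.least 2), .two 1871 1 2 0, .old (.sylow 13 1 144 2 4 3 2), .two 1873 1 2 0, .two 2 1 937 1, .two 3 1 5 4, .old (.least 2), .two 1877 1 2 0, .old (.least 2), .two 1879 1 2 0, .old (.sylow 5 1 376 2 3 47 1), .old (.least 3), .two 2 1 941 1, .two 7 1 269 1, .old (.sylow 3 1 628 2 2 157 1), .old (.least 5), .old (.least 2), .old (.least 3), .two 2 5 59 1, .two 1889 1 2 0, .old (.least 2), .two 31 1 61 1, .old (.least 2), .two 3 1 631 1, .two 2 1 947 1, .two 5 1 379 1, .old (.sylow 79 1 24 2 3 3 1), .two 7 1 271 1, .old (.least 2), .two 3 2 211 1, .old (.least 2), .two 1901 1 2 0, .old (.least 2), .two 11 1 173 1, .old (.sylow 7 1 272 2 4 17 1), .old (.least 3), .two 2 1 953 1, .two 1907 1 2 0, .old (.sylow 53 1 36 2 2 3 2), .two 23 1 83 1, .old (.least 2), .old (.least 3)]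

theorem band8_ok : checkFrom 1821 band8 = true := by decide +kernel

theorem band8_length : band8.length = 91 := rfl

/-- Certificates from 1912 on. -/
def band9 : List Cert := [.two 2 3 239 1, .two 1913 1 2 0, .old (.least 2), .two 5 1 383 1, .two 2 2 479 1, .two 3 3 71 1, .old (.least 2), .two 19 1 101 1, .old (.sylow 3 1 640 2 7 5 1), .two 17 1 113 1, .two 2 1 31 2, .two 3 1 641 1, .old (.least 2), .old (.least 5), .old (.least 2), .two 41 1 47 1, .two 2 3 241 1, .two 3 1 643 1, .old (.least 2), .two 1931 1 2 0, .old (.sylow 23 1 84 2 0 2 0), .two 1933 1 2 0, .two 2 1 967 1, .old (.least 3), .two 2 4 11 2, .two 13 1 149 1, .old (.least 2), .two 7 1 277 1, .old (.least 2), .two 3 1 647 1, .two 2 1 971 1, .two 29 1 67 1, .two 2 3 3 5, .two 5 1 389 1, .old (.least 2), .old (.least 3), .two 2 2 487 1, .two 1949 1 2 0, .old (.least 2), .two 1951 1 2 0, .two 2 5 61 1, .old (.least 3), .two 2 1 977 1, .old (.least 5), .old (.sylow 3 1 652 2 2 163 1), .two 19 1 103 1, .old (.least 2), .two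 3 1 653 1, .old (.sylow 7 2 40 2 3 5 1), .two 37 1 53 1, .old (.least 2), .two 13 1 151 1, .two 2 2 491 1, .old (.least 3), .two 2 1 983 1, .two 7 1 281 1, .old (.sylow 41 1 48 2 4 3 1), .two 11 1 179 1, .old (.least 2), .two 3 3 73 1, .old (.least 2), .two 1973 1 2 0, .old (.least 2), .two 5 2 79 1, .old (.sylow 13 1 152 2 3 19 1), .two 3 1 659 1, .old (.least 2), .two 1979 1 2 0, .skip, .two 7 1 283 1, .two 2 1 991 1, .two 3 1 661 1, .two 2 6 31 1, .two 5 1 397 1, .old (.least 2), .two 1987 1 2 0, .old (.least 2), .old (.least 3), .old (.least 2), .two 11 1 181 1, .old (.sylow 3 1 664 2 3 83 1), .two 1993 1 2 0, .two 2 1 997 1, .old (.least 3), .two 2 2 499 1, .two 1997 1 2 0, .old (.least 2), .two 1999 1 2 0, .two 2 4 5 3, .old (.least 3), .old (.least 2)]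

theorem band9_ok : checkFrom 1912 band9 = true := by decide +kernel

theorem band9_length : band9.length = 91 := rfl

/-- Certificates from 2003 on. -/
def band10 : List Cert := [.two 2003 1 2 0, .old (.sylow 167 1 12 2 2 3 1), .two 5 1 401 1, .old (.least 2), .two 3 2 223 1, .two 2 3 251 1, .two 7 2 41 1, .old (.least 2), .two 2011 1 2 0, .two 2 2 503 1, .old (.least 3), .old (.least 2), .old (.least 5), .old (.sylow 7 1 288 2 5 3 2), .two 2017 1 2 0, .two 2 1 1009 1, .two 3 1 673 1, .old (.least 2), .two 43 1 47 1, .old (.least 2), .two 7 1 17 2, .old (.sylow 11 1 184 2 3 23 1), .two 3 4 5 2, .two 2 1 1013 1, .two 2027 1 2 0, .old (.sylow 3 1 676 2 2 13 2), .two 2029 1 2 0, .old (.least 2), .two 3 1 677 1, .two 2 4 127 1, .two 19 1 107 1, .old (.least 2), .old (.least 5), .two 2 2 509 1, .old (.least 3), .two 2 1 1019 1, .two 2039 1 2 0, .old (.sylow 17 1 120 2 0 2 0), .two 13 1 157 1, .two 2 1 1021 1, .two 3 2 227 1, .old (.least 2), .two 5 1 409 1, .old (.least 2), .two 23 1 89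 1, .two 2 11 3 0, .two 3 1 683 1, .old (.least 2), .two 7 1 293 1, .old (.sylow 19 1 108 2 2 3 3), .two 2053 1 2 0, .old (.least 2), .old (.least 3), .two 2 3 257 1, .two 11 2 17 1, .old (.least 2), .two 29 1 71 1, .old (.least 2), .two 3 2 229 1, .two 2 1 1031 1, .two 2063 1 2 0, .old (.sylow 3 1 688 2 4 43 1), .old (.least 5), .two 2 1 1033 1, .old (.least 3), .old (.least 2), .two 2069 1 2 0, .old (.least 2), .two 19 1 109 1, .old (.sylow 37 1 56 2 3 7 1), .two 3 1 691 1, .old (.least 2), .two 5 2 83 1, .old (.sylow 173 1 12 2 2 3 1), .two 31 1 67 1, .two 2 1 1039 1, .old (.sylow 3 3 77 7 1 11 1), .old (.sylow 5 1 416 2 5 13 1), .two 2081 1 2 0, .old (.least 2), .two 2083 1 2 0, .two 2 2 521 1, .old (.least 3), .old (.least 2), .two 2087 1 2 0, .old (.sylow 29 1 72 2 3 3 2), .two 2089 1 2 0, .old (.least 2), .old (.least 3), .two 2 2 523 1, .old (.least 7)]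

theorem band10_ok : checkFrom 2003 band10 = true := by decide +kernel

theorem band10_length : band10.length = 91 := rfl

/-- Certificates from 2094 on. -/
def band11 : List Cert := [.old (.least 2), .two 5 1 419 1, .two 2 4 131 1, .two 3 2 233 1, .two 2 1 1049 1, .two 2099 1 2 0, .skip, .two 11 1 191 1, .two 2 1 1051 1, .two 3 1 701 1, .two 2 3 263 1, .two 5 1 421 1, .old (.least 2), .two 7 2 43 1, .old (.least 2), .old (.least 3), .old (.least 2), .two 2111 1 2 0, .old (.sylow 11 1 192 2 6 3 1), .two 2113 1 2 0, .old (.least 2), .old (.least 3), .two 2 2 23 2, .two 29 1 73 1, .old (.least 2), .two 13 1 163 1, .old (.sylow 53 1 40 2 3 5 1), .old (.least 3), .two 2 1 1061 1, .two 11 1 193 1, .old (.sylow 59 1 36 2 2 3 2), .two 5 3 17 1, .two 2 1 1063 1, .two 3 1 709 1, .old (.sylow 7 1 304 2 4 19 1), .two 2129 1 2 0, .old (.least 2), .two 2131 1 2 0, .old (.least 2), .two 3 3 79 1, .old (.least 2), .old (.least 5), .old (.sylow 3 1 712 2 3 89 1), .two 2137 1 2 0, .two 2 1 1069 1, .old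 (.least 3), .old (.least 2), .two 2141 1 2 0, .old (.least 2), .two 2143 1 2 0, .two 2 5 67 1, .old (.least 3), .old (.least 2), .two 19 1 113 1, .old (.sylow 179 1 12 2 2 3 1), .two 7 1 307 1, .old (.least 2), .two 3 2 239 1, .two 2 3 269 1, .two 2153 1 2 0, .old (.least 2), .two 5 1 431 1, .old (.least 2), .two 3 1 719 1, .old (.least 2), .two 17 1 127 1, .skip, .two 2161 1 2 0, .old (.least 2), .old (.least 3), .two 2 2 541 1, .two 5 1 433 1, .old (.least 2), .two 11 1 197 1, .two 2 3 271 1, .two 3 2 241 1, .old (.least 2), .two 13 1 167 1, .old (.sylow 3 1 724 2 2 181 1), .two 41 1 53 1, .two 2 1 1087 1, .old (.least 3), .two 2 7 17 1, .two 7 1 311 1, .old (.least 2), .two 2179 1 2 0, .old (.least 2), .two 3 1 727 1, .two 2 1 1091 1, .two 37 1 59 1, .old (.sylow 13 1 168 2 0 2 0)]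

theorem band11_ok : checkFrom 2094 band11 = true := by decide +kernel

theorem band11_length : band11.length = 91 := rfl

/-- Certificates from 2185 on. -/
def band12 : List Cert := [.old (.least 5), .two 2 1 1093 1, .two 3 7 2 0, .two 2 2 547 1, .two 11 1 199 1, .old (.least 2), .two 7 1 313 1, .two 2 4 137 1, .old (.least 3), .two 2 1 1097 1, .two 5 1 439 1, .old (.sylow 61 1 36 2 2 3 2), .two 13 3 2 0, .old (.least 2), .two 3 1 733 1, .skip, .two 31 1 71 1, .old (.least 2), .two 2203 1 2 0, .old (.least 2), .old (.least 3), .two 2 1 1103 1, .two 2207 1 2 0, .old (.sylow 3 1 736 2 5 23 1), .two 47 2 2 0, .old (.least 2), .old (.least 3), .old (.least 2), .two 2213 1 2 0, .old (.least 2), .two 5 1 443 1, .two 2 3 277 1, .two 3 1 739 1, .two 2 1 1109 1, .two 7 1 317 1, .old (.sylow 37 1 60 2 0 2 0), .two 2221 1 2 0, .old (.least 2), .old (.least 3), .two 2 4 139 1, .two 5 2 89 1, .old (.least 2), .two 17 1 131 1, .two 2 2 557 1, .two 3 1 743 1, .old (.least 2), .two 23 1 97 1, .old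 (.sylow 31 1 72 2 3 3 2), .old (.least 7), .two 2 1 1117 1, .old (.least 3), .old (.least 2), .two 2237 1 2 0, .old (.least 2), .two 2239 1 2 0, .old (.sylow 5 1 448 2 6 7 1), .two 3 3 83 1, .old (.least 2), .two 2243 1 2 0, .old (.sylow 17 1 132 2 0 2 0), .two 5 1 449 1, .two 2 1 1123 1, .old (.least 3), .two 2 3 281 1, .two 13 1 173 1, .old (.least 2), .two 2251 1 2 0, .two 2 2 563 1, .two 3 1 751 1, .old (.least 2), .old (.least 5), .old (.sylow 47 1 48 2 4 3 1), .two 37 1 61 1, .two 2 1 1129 1, .two 3 2 251 1, .old (.least 2), .old (.least 7), .old (.least 2), .two 31 1 73 1, .two 2 3 283 1, .old (.least 3), .old (.least 2), .two 2267 1 2 0, .skip, .two 2269 1 2 0, .old (.least 2), .two 3 1 757 1, .two 2 5 71 1, .two 2273 1 2 0, .old (.least 2), .old (.least 5)]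

theorem band12_ok : checkFrom 2185 band12 = true := by decide +kernel

theorem band12_length : band12.length = 91 := rfl

/-- Certificates from 2276 on. -/
def band13 : List Cert := [.two 2 2 569 1, .old (.least 3), .old (.least 2), .two 43 1 53 1, .old (.sylow 19 1 120 2 0 2 0), .two 2281 1 2 0, .old (.least 2), .two 3 1 761 1, .two 2 2 571 1, .two 5 1 457 1, .old (.least 2), .two 2287 1 2 0, .old (.sylow 11 1 208 2 4 13 1), .old (.least 3), .old (.least 2), .two 29 1 79 1, .old (.sylow 191 1 12 2 2 3 1), .two 2293 1 2 0, .old (.least 2), .old (.sylow 5 1 459 3 3 17 1), .old (.sylow 7 1 328 2 3 41 1), .two 2297 1 2 0, .old (.least 2), .two 11 2 19 1, .old (.least 2), .old (.least 3), .two 2 1 1151 1, .two 7 2 47 1, .two 2 8 3 2, .two 5 1 461 1, .two 2 1 1153 1, .two 3 1 769 1, .two 2 2 577 1, .two 2309 1 2 0, .old (.least 2), .two 2311 1 2 0, .two 2 3 17 2, .two 3 2 257 1, .old (.least 2), .two 5 1 463 1, .old (.sylow 3 1 772 2 2 193 1), .two 7 1 331 1, .old (.least 2), .two 3 1 773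 1, .old (.sylow 29 1 80 2 4 5 1), .two 11 1 211 1, .old (.least 2), .two 23 1 101 1, .old (.least 2), .old (.least 3), .two 2 1 1163 1, .two 13 1 179 1, .old (.sylow 97 1 24 2 3 3 1), .two 17 1 137 1, .old (.least 2), .old (.least 3), .old (.least 2), .two 2333 1 2 0, .old (.least 2), .two 5 1 467 1, .two 2 5 73 1, .old (.least 3), .old (.least 2), .two 2339 1 2 0, .old (.sylow 13 1 180 2 0 2 0), .two 2341 1 2 0, .two 2 1 1171 1, .old (.least 3), .two 2 3 293 1, .old (.least 5), .old (.least 2), .two 2347 1 2 0, .two 2 2 587 1, .two 3 4 29 1, .old (.least 2), .two 2351 1 2 0, .old (.sylow 3 1 784 2 4 7 2), .two 13 1 181 1, .old (.least 2), .old (.least 3), .old (.least 2), .two 2357 1 2 0, .old (.least 2), .two 7 1 337 1, .old (.sylow 59 1 40 2 3 5 1), .two 3 1 787 1, .two 2 1 1181 1, .two 17 1 139 1, .old (.sylow 197 1 12 2 2 3 1), .old (.least 5), .old (.least 2)]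

theorem band13_ok : checkFrom 2276 band13 = true := by decide +kernel

theorem band13_length : band13.length = 91 := rfl

/-- Certificates from 2367 on. -/
def band14 : List Cert := [.two 3 2 263 1, .two 2 6 37 1, .two 23 1 103 1, .old (.least 2), .two 2371 1 2 0, .two 2 2 593 1, .old (.least 3), .two 2 1 1187 1, .two 5 3 19 1, .old (.sylow 11 1 216 2 3 3 3), .two 2377 1 2 0, .old (.least 2), .old (.least 3), .old (.least 2), .two 2381 1 2 0, .old (.least 2), .two 2383 1 2 0, .two 2 4 149 1, .old (.least 3), .two 2 1 1193 1, .old (.least 7), .old (.sylow 3 1 796 2 2 199 1), .two 2389 1 2 0, .old (.least 2), .two 3 1 797 1, .old (.sylow 23 1 104 2 3 13 1), .two 2393 1 2 0, .old (.least 2), .two 5 1 479 1, .two 2 2 599 1, .old (.least 3), .old (.least 2), .two 2399 1 2 0, .skip, .two 7 4 2 0, .two 2 1 1201 1, .two 3 3 89 1, .two 2 2 601 1, .old (.least 5), .old (.least 2), .two 29 1 83 1, .old (.sylow 7 1 344 2 3 43 1), .old (.least 3), .old (.least 2), .two 2411 1 2 0, .old (.sylow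 67 1 36 2 2 3 2), .two 19 1 127 1, .old (.least 2), .old (.least 3), .two 2 4 151 1, .two 2417 1 2 0, .old (.least 2), .two 41 1 59 1, .old (.least 2), .two 3 2 269 1, .old (.least 2), .two 2423 1 2 0, .old (.sylow 3 1 808 2 3 101 1), .two 5 2 97 1, .two 2 1 1213 1, .two 3 1 809 1, .two 2 2 607 1, .two 7 1 347 1, .old (.least 2), .old (.least 11), .two 2 7 19 1, .two 3 1 811 1, .two 2 1 1217 1, .two 5 1 487 1, .old (.sylow 29 1 84 2 0 2 0), .two 2437 1 2 0, .old (.least 2), .two 3 2 271 1, .old (.sylow 5 1 488 2 3 61 1), .two 2441 1 2 0, .old (.least 2), .two 7 1 349 1, .old (.least 2), .old (.least 3), .two 2 1 1223 1, .two 2447 1 2 0, .skip, .two 31 1 79 1, .old (.least 2), .old (.least 3), .two 2 2 613 1, .two 11 1 223 1, .old (.least 2), .two 5 1 491 1, .two 2 3 307 1, .old (.sylow 7 1 351 3 3 13 1)]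

theorem band14_ok : checkFrom 2367 band14 = true := by decide +kernel

theorem band14_length : band14.length = 91 := rfl

/-- Certificates from 2458 on. -/
def band15 : List Cert := [.two 2 1 1229 1, .two 2459 1 2 0, .old (.sylow 41 1 60 2 0 2 0), .two 23 1 107 1, .two 2 1 1231 1, .two 3 1 821 1, .old (.sylow 11 1 224 2 5 7 1), .old (.least 5), .old (.least 2), .two 2467 1 2 0, .two 2 2 617 1, .two 3 1 823 1, .old (.least 2), .two 7 1 353 1, .old (.sylow 103 1 24 2 3 3 1), .two 2473 1 2 0, .two 2 1 1237 1, .old (.least 3), .two 2 2 619 1, .two 2477 1 2 0, .old (.least 2), .two 37 1 67 1, .old (.sylow 5 1 496 2 4 31 1), .two 3 1 827 1, .old (.least 2), .two 13 1 191 1, .old (.sylow 23 1 108 2 2 3 3), .old (.least 5), .old (.least 2), .two 3 1 829 1, .two 2 3 311 1, .two 19 1 131 1, .old (.least 2), .two 47 1 53 1, .old (.least 2), .two 3 2 277 1, .old (.least 2), .two 5 1 499 1, .old (.sylow 3 1 832 2 6 13 1), .two 11 1 227 1, .two 2 1 1249 1, .old (.least 3), .two 2 2 5 4, .two 41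 1 61 1, .old (.least 2), .two 2503 1 2 0, .two 2 3 313 1, .old (.least 3), .old (.least 2), .two 23 1 109 1, .old (.sylow 11 1 228 2 0 2 0), .two 13 1 193 1, .old (.least 2), .two 3 4 31 1, .two 2 4 157 1, .two 7 1 359 1, .old (.least 2), .two 5 1 503 1, .old (.least 2), .two 3 1 839 1, .two 2 1 1259 1, .two 11 1 229 1, .skip, .two 2521 1 2 0, .old (.least 2), .two 3 1 29 2, .two 2 2 631 1, .two 5 2 101 1, .old (.least 2), .two 7 1 19 2, .two 2 5 79 1, .two 3 2 281 1, .old (.least 2), .two 2531 1 2 0, .old (.sylow 3 1 844 2 2 211 1), .two 17 1 149 1, .old (.least 2), .old (.least 3), .two 2 3 317 1, .two 43 1 59 1, .old (.least 2), .two 2539 1 2 0, .old (.least 2), .old (.least 3), .old (.least 2), .two 2543 1 2 0, .old (.sylow 53 1 48 2 4 3 1), .two 5 1 509 1, .old (.least 2), .two 3 2 283 1, .old (.least 2)]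

theorem band15_ok : checkFrom 2458 band15 = true := by decide +kernel

theorem band15_length : band15.length = 91 := rfl

/-- Certificates from 2549 on. -/
def band16 : List Cert := [.two 2549 1 2 0, .old (.least 2), .two 2551 1 2 0, .old (.sylow 11 1 232 2 3 29 1), .old (.least 3), .two 2 1 1277 1, .old (.least 5), .old (.sylow 71 1 36 2 2 3 2), .two 2557 1 2 0, .two 2 1 1279 1, .two 3 1 853 1, .two 2 9 5 1, .two 13 1 197 1, .old (.least 2), .two 11 1 233 1, .two 2 2 641 1, .old (.sylow 5 1 513 3 3 19 1), .two 2 1 1283 1, .two 17 1 151 1, .old (.sylow 3 1 856 2 3 107 1), .two 7 1 367 1, .old (.least 2), .two 3 1 857 1, .two 2 2 643 1, .two 31 1 83 1, .old (.least 2), .two 5 2 103 1, .old (.sylow 7 1 368 2 4 23 1), .two 3 1 859 1, .two 2 1 1289 1, .two 2579 1 2 0, .old (.sylow 43 1 60 2 0 2 0), .two 29 1 89 1, .two 2 1 1291 1, .old (.least 3), .old (.sylow 17 1 152 2 3 19 1), .old (.least 5), .old (.least 2), .two 13 1 199 1, .two 2 2 647 1, .two 3 1 863 1, .old (.least 2), .two 2591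 1 2 0, .two 2 5 3 4, .two 2593 1 2 0, .two 2 1 1297 1, .old (.least 3), .old (.least 2), .two 7 2 53 1, .old (.least 2), .two 23 1 113 1, .old (.sylow 13 1 200 2 3 5 2), .two 3 2 17 2, .two 2 1 1301 1, .two 19 1 137 1, .old (.sylow 7 1 372 2 0 2 0), .two 5 1 521 1, .two 2 1 1303 1, .old (.least 3), .two 2 4 163 1, .two 2609 1 2 0, .old (.least 2), .two 7 1 373 1, .two 2 2 653 1, .old (.least 3), .two 2 1 1307 1, .two 5 1 523 1, .old (.sylow 109 1 24 2 3 3 1), .two 2617 1 2 0, .old (.least 2), .two 3 3 97 1, .old (.least 2), .two 2621 1 2 0, .old (.least 2), .two 43 1 61 1, .two 2 6 41 1, .old (.least 3), .old (.least 2), .two 37 1 71 1, .old (.sylow 73 1 36 2 2 3 2), .two 11 1 239 1, .old (.least 2), .two 3 1 877 1, .old (.sylow 7 1 376 2 3 47 1), .two 2633 1 2 0, .old (.least 2), .old (.least 5), .two 2 2 659 1, .two 3 2 293 1, .two 2 1 1319 1, .old (.least 7)]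

theorem band16_ok : checkFrom 2549 band16 = true := by decide +kernel

theorem band16_length : band16.length = 91 := rfl

/-- Certificates from 2640 on. -/
def band17 : List Cert := [.old (.sylow 11 1 240 2 0 2 0), .two 19 1 139 1, .two 2 1 1321 1, .two 3 1 881 1, .two 2 2 661 1, .two 5 1 23 2, .old (.least 2), .two 2647 1 2 0, .two 2 3 331 1, .two 3 1 883 1, .old (.least 2), .two 11 1 241 1, .old (.sylow 13 1 204 2 0 2 0), .two 7 1 379 1, .two 2 1 1327 1, .old (.least 3), .two 2 5 83 1, .two 2657 1 2 0, .old (.least 2), .two 2659 1 2 0, .old (.least 2), .two 3 1 887 1, .two 2 1 11 3, .two 2663 1 2 0, .old (.sylow 37 1 72 2 3 3 2), .old (.least 5), .old (.least 2), .old (.least 3), .old (.least 2), .two 17 1 157 1, .old (.least 2), .two 2671 1 2 0, .two 2 4 167 1, .two 3 5 11 1, .old (.least 2), .two 5 2 107 1, .old (.sylow 3 1 892 2 2 223 1), .two 2677 1 2 0, .old (.least 2), .old (.least 3), .old (.sylow 5 1 536 2 3 67 1), .two 7 1 383 1, .old (.least 2), .two 2683 1 2 0, .old (.least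 2), .old (.least 3), .old (.least 2), .two 2687 1 2 0, .skip, .two 2689 1 2 0, .old (.least 2), .old (.least 3), .two 2 2 673 1, .two 2693 1 2 0, .old (.least 2), .old (.least 5), .two 2 3 337 1, .old (.least 3), .old (.least 2), .two 2699 1 2 0, .skip, .two 37 1 73 1, .old (.least 2), .old (.least 3), .two 2 4 13 2, .two 5 1 541 1, .old (.least 2), .two 2707 1 2 0, .two 2 2 677 1, .old (.least 3), .old (.least 2), .two 2711 1 2 0, .old (.sylow 3 1 904 2 3 113 1), .two 2713 1 2 0, .old (.least 2), .old (.least 3), .old (.least 2), .old (.least 11), .old (.least 2), .two 2719 1 2 0, .old (.sylow 17 1 160 2 5 5 1), .two 3 1 907 1, .two 2 1 1361 1, .two 7 1 389 1, .old (.sylow 227 1 12 2 2 3 1), .two 5 2 109 1, .old (.least 2), .two 3 3 101 1, .old (.sylow 11 1 248 2 3 31 1), .two 2729 1 2 0, .old (.least 2)]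

theorem band17_ok : checkFrom 2640 band17 = true := by decide +kernel

theorem band17_length : band17.length = 91 := rfl

/-- Certificates from 2731 on. -/
def band18 : List Cert := [.two 2731 1 2 0, .two 2 2 683 1, .two 3 1 911 1, .two 2 1 1367 1, .two 5 1 547 1, .old (.sylow 19 1 144 2 4 3 2), .old (.least 7), .two 2 1 37 2, .old (.least 3), .old (.least 2), .two 2741 1 2 0, .old (.least 2), .two 13 1 211 1, .two 2 3 7 3, .old (.least 3), .two 2 1 1373 1, .two 41 1 67 1, .old (.sylow 3 1 916 2 2 229 1), .two 2749 1 2 0, .old (.least 2), .old (.least 3), .two 2 6 43 1, .two 2753 1 2 0, .old (.least 2), .old (.least 5), .old (.least 2), .two 3 1 919 1, .old (.least 2), .two 31 1 89 1, .old (.sylow 23 1 120 2 0 2 0), .two 11 1 251 1, .two 2 1 1381 1, .two 3 2 307 1, .two 2 2 691 1, .old (.least 5), .old (.least 2), .two 2767 1 2 0, .two 2 4 173 1, .old (.least 3), .old (.least 2), .two 17 1 163 1, .old (.sylow 11 1 252 2 0 2 0), .two 47 1 59 1, .old (.least 2), .old (.least 3), .two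 2 3 347 1, .two 2777 1 2 0, .old (.least 2), .two 7 1 397 1, .old (.least 2), .two 3 3 103 1, .old (.least 2), .two 11 2 23 1, .old (.sylow 3 1 928 2 5 29 1), .two 5 1 557 1, .old (.least 2), .two 3 1 929 1, .old (.least 2), .two 2789 1 2 0, .old (.least 2), .two 2791 1 2 0, .two 2 3 349 1, .old (.least 3), .old (.least 2), .old (.least 5), .old (.sylow 233 1 12 2 2 3 1), .two 2797 1 2 0, .two 2 1 1399 1, .two 3 2 311 1, .old (.sylow 7 1 400 2 4 5 2), .two 2801 1 2 0, .old (.least 2), .two 2803 1 2 0, .two 2 2 701 1, .old (.least 3), .old (.least 2), .two 7 1 401 1, .old (.sylow 13 1 216 2 3 3 3), .two 53 2 2 0, .old (.least 2), .two 3 1 937 1, .old (.least 2), .two 29 1 97 1, .old (.least 2), .two 5 1 563 1, .two 2 8 11 1, .two 3 2 313 1, .two 2 1 1409 1, .two 2819 1 2 0, .old (.sylow 47 1 60 2 0 2 0), .old (.least 7)]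

theorem band18_ok : checkFrom 2731 band18 = true := by decide +kernel

theorem band18_length : band18.length = 91 := rfl

/-- Certificates from 2822 on. -/
def band19 : List Cert := [.old (.least 2), .two 3 1 941 1, .two 2 3 353 1, .two 5 2 113 1, .old (.least 2), .two 11 1 257 1, .old (.least 2), .old (.least 3), .old (.least 2), .two 19 1 149 1, .old (.sylow 59 1 48 2 4 3 1), .two 2833 1 2 0, .old (.least 2), .old (.sylow 3 4 35 5 1 7 1), .two 2 2 709 1, .two 2837 1 2 0, .old (.least 2), .two 17 1 167 1, .old (.sylow 5 1 568 2 3 71 1), .two 3 1 947 1, .old (.least 2), .two 2843 1 2 0, .old (.sylow 79 1 36 2 2 3 2), .two 5 1 569 1, .two 2 1 1423 1, .old (.least 3), .two 2 5 89 1, .old (.least 7), .old (.least 2), .two 2851 1 2 0, .old (.least 2), .two 3 2 317 1, .two 2 1 1427 1, .two 5 1 571 1, .old (.sylow 17 1 168 2 0 2 0), .two 2857 1 2 0, .two 2 1 1429 1, .two 3 1 953 1, .old (.least 2), .two 2861 1 2 0, .old (.least 2), .two 7 1 409 1, .two 2 4 179 1, .old (.least 3), .two 2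 1 1433 1, .two 47 1 61 1, .old (.sylow 239 1 12 2 2 3 1), .two 19 1 151 1, .old (.least 2), .old (.least 3), .two 2 3 359 1, .two 13 2 17 1, .old (.least 2), .two 5 3 23 1, .two 2 2 719 1, .old (.least 3), .two 2 1 1439 1, .two 2879 1 2 0, .old (.sylow 5 1 576 2 6 3 2), .two 43 1 67 1, .old (.least 2), .two 3 1 31 2, .old (.least 2), .two 5 1 577 1, .old (.least 2), .two 2887 1 2 0, .two 2 3 19 2, .two 3 3 107 1, .old (.least 2), .two 7 2 59 1, .old (.sylow 3 1 964 2 2 241 1), .two 11 1 263 1, .two 2 1 1447 1, .old (.least 3), .two 2 4 181 1, .two 2897 1 2 0, .old (.least 2), .two 13 1 223 1, .old (.least 2), .two 3 1 967 1, .two 2 1 1451 1, .two 2903 1 2 0, .old (.sylow 11 2 24 2 3 3 1), .old (.least 5), .two 2 1 1453 1, .old (.least 3), .two 2 2 727 1, .two 2909 1 2 0, .old (.least 2), .two 41 1 71 1, .old (.sylow 7 1 416 2 5 13 1)]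

theorem band19_ok : checkFrom 2822 band19 = true := by decide +kernel

theorem band19_length : band19.length = 91 := rfl

/-- Certificates from 2913 on. -/
def band20 : List Cert := [.two 3 1 971 1, .old (.least 2), .old (.least 5), .two 2 2 3 6, .two 2917 1 2 0, .two 2 1 1459 1, .old (.least 3), .old (.sylow 73 1 40 2 3 5 1), .two 23 1 127 1, .old (.least 2), .two 37 1 79 1, .old (.least 2), .old (.least 3), .old (.least 2), .two 2927 1 2 0, .old (.sylow 3 1 976 2 4 61 1), .two 29 1 101 1, .old (.least 2), .two 3 1 977 1, .two 2 2 733 1, .two 7 1 419 1, .old (.least 2), .two 5 1 587 1, .two 2 3 367 1, .old (.least 3), .old (.least 2), .two 2939 1 2 0, .skip, .two 17 1 173 1, .two 2 1 1471 1, .two 3 3 109 1, .two 2 7 23 1, .old (.least 5), .old (.least 2), .two 7 1 421 1, .old (.least 2), .two 3 1 983 1, .old (.least 2), .two 13 1 227 1, .old (.sylow 41 1 72 2 3 3 2), .two 2953 1 2 0, .old (.least 2), .old (.least 3), .two 2 2 739 1, .two 2957 1 2 0, .old (.least 2), .two 11 1 269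 1, .old (.sylow 37 1 80 2 4 5 1), .old (.least 3), .two 2 1 1481 1, .two 2963 1 2 0, .old (.sylow 13 1 228 2 0 2 0), .two 5 1 593 1, .two 2 1 1483 1, .old (.least 3), .old (.sylow 7 1 424 2 3 53 1), .two 2969 1 2 0, .old (.least 2), .two 2971 1 2 0, .two 2 2 743 1, .two 3 1 991 1, .two 2 1 1487 1, .old (.least 5), .old (.sylow 31 1 96 2 5 3 1), .two 13 1 229 1, .two 2 1 1489 1, .two 3 2 331 1, .old (.least 2), .two 11 1 271 1, .old (.least 2), .two 19 1 157 1, .two 2 3 373 1, .old (.least 3), .two 2 1 1493 1, .two 29 1 103 1, .old (.sylow 83 1 36 2 2 3 2), .two 7 2 61 1, .old (.least 2), .two 3 1 997 1, .old (.sylow 11 1 272 2 4 17 1), .two 41 1 73 1, .old (.least 2), .two 5 1 599 1, .old (.least 2), .two 3 4 37 1, .two 2 1 1499 1, .two 2999 1 2 0, .old (.sylow 3 1 1000 2 3 5 3), .two 3001 1 2 0, .old (.least 2), .old (.least 3)]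

theorem band20_ok : checkFrom 2913 band20 = true := by decide +kernel

theorem band20_length : band20.length = 91 := rfl

/-- Certificates from 3004 on. -/
def band21 : List Cert := [.two 2 2 751 1, .two 5 1 601 1, .old (.least 2), .two 31 1 97 1, .two 2 6 47 1, .old (.least 3), .old (.least 2), .two 3011 1 2 0, .old (.sylow 251 1 12 2 2 3 1), .two 23 1 131 1, .old (.least 2), .old (.least 3), .old (.sylow 13 1 232 2 3 29 1), .two 7 1 431 1, .old (.least 2), .two 3019 1 2 0, .old (.least 2), .old (.least 3), .two 2 1 1511 1, .two 3023 1 2 0, .old (.sylow 7 1 432 2 4 3 3), .two 5 2 11 2, .old (.least 2), .two 3 1 1009 1, .two 2 2 757 1, .two 13 1 233 1, .old (.least 2), .two 7 1 433 1, .two 2 3 379 1, .two 3 2 337 1, .old (.least 2), .two 5 1 607 1, .old (.sylow 23 1 132 2 0 2 0), .two 3037 1 2 0, .old (.least 2), .two 3 1 1013 1, .old (.sylow 5 1 608 2 5 19 1), .two 3041 1 2 0, .old (.least 2), .two 17 1 179 1, .two 2 2 761 1, .old (.least 3), .two 2 1 1523 1, .two 11 1 277 1, .old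 (.sylow 127 1 24 2 3 3 1), .two 3049 1 2 0, .old (.least 2), .two 3 3 113 1, .old (.least 2), .two 43 1 71 1, .old (.least 2), .old (.least 5), .two 2 4 191 1, .two 3 1 1019 1, .old (.least 2), .old (.least 7), .old (.sylow 17 1 180 2 0 2 0), .two 3061 1 2 0, .two 2 1 1531 1, .two 3 1 1021 1, .two 2 3 383 1, .two 5 1 613 1, .old (.least 2), .two 3067 1 2 0, .old (.least 2), .old (.least 3), .old (.least 2), .two 37 1 83 1, .two 2 10 3 1, .two 7 1 439 1, .old (.least 2), .old (.least 3), .two 2 2 769 1, .two 17 1 181 1, .old (.least 2), .two 3079 1 2 0, .skip, .old (.least 3), .old (.least 2), .two 3083 1 2 0, .old (.sylow 257 1 12 2 2 3 1), .two 5 1 617 1, .two 2 1 1543 1, .two 3 2 7 3, .two 2 4 193 1, .two 3089 1 2 0, .old (.least 2), .two 11 1 281 1, .two 2 2 773 1, .two 3 1 1031 1, .old (.least 2)]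

theorem band21_ok : checkFrom 3004 band21 = true := by decide +kernel

theorem band21_length : band21.length = 91 := rfl

/-- Certificates from 3095 on. -/
def band22 : List Cert := [.two 5 1 619 1, .old (.sylow 43 1 72 2 3 3 2), .two 19 1 163 1, .two 2 1 1549 1, .two 3 1 1033 1, .old (.least 2), .two 7 1 443 1, .old (.least 2), .two 29 1 107 1, .two 2 5 97 1, .old (.sylow 5 1 621 3 3 23 1), .two 2 1 1553 1, .two 13 1 239 1, .old (.sylow 37 1 84 2 0 2 0), .two 3109 1 2 0, .old (.least 2), .old (.least 3), .two 2 3 389 1, .two 11 1 283 1, .old (.least 2), .old (.least 5), .old (.least 2), .two 3 1 1039 1, .two 2 1 1559 1, .two 3119 1 2 0, .skip, .two 3121 1 2 0, .old (.least 2), .two 3 2 347 1, .old (.least 2), .two 5 5 2 0, .old (.least 2), .two 53 1 59 1, .old (.sylow 17 1 184 2 3 23 1), .old (.least 3), .old (.least 2), .two 31 1 101 1, .old (.sylow 29 1 108 2 2 3 3), .two 13 1 241 1, .two 2 1 1567 1, .old (.least 3), .two 2 6 7 2, .two 3137 1 2 0, .old (.least 2), .two 43 1 73 1,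 .old (.least 2), .two 3 2 349 1, .two 2 1 1571 1, .two 7 1 449 1, .old (.sylow 3 1 1048 2 3 131 1), .old (.least 5), .old (.least 2), .two 3 1 1049 1, .two 2 2 787 1, .two 47 1 67 1, .old (.least 2), .two 23 1 137 1, .two 2 4 197 1, .two 3 1 1051 1, .old (.least 2), .two 5 1 631 1, .old (.sylow 263 1 12 2 2 3 1), .old (.least 7), .two 2 1 1579 1, .two 3 5 13 1, .old (.sylow 79 1 40 2 3 5 1), .two 29 1 109 1, .old (.least 2), .two 3163 1 2 0, .old (.least 2), .old (.least 3), .two 2 1 1583 1, .two 3167 1 2 0, .skip, .two 3169 1 2 0, .old (.least 2), .old (.least 3), .old (.least 2), .two 19 1 167 1, .old (.least 2), .two 5 2 127 1, .two 2 3 397 1, .two 3 2 353 1, .old (.least 2), .two 11 1 17 2, .old (.sylow 53 1 60 2 0 2 0), .two 3181 1 2 0, .old (.least 2), .two 3 1 1061 1, .two 2 4 199 1, .old (.least 5)]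

theorem band22_ok : checkFrom 3095 band22 = true := by decide +kernel

theorem band22_length : band22.length = 91 := rfl

/-- Certificates from 3186 on. -/
def band23 : List Cert := [.old (.least 2), .two 3187 1 2 0, .two 2 2 797 1, .two 3 1 1063 1, .old (.least 2), .two 3191 1 2 0, .old (.sylow 19 1 168 2 0 2 0), .two 31 1 103 1, .two 2 1 1597 1, .old (.least 3), .old (.least 2), .two 23 1 139 1, .old (.least 2), .two 7 1 457 1, .two 2 7 5 2, .old (.least 3), .two 2 1 1601 1, .two 3203 1 2 0, .old (.sylow 89 1 36 2 2 3 2), .two 5 1 641 1, .old (.least 2), .two 3 1 1069 1, .two 2 3 401 1, .two 3209 1 2 0, .old (.least 2), .two 13 2 19 1, .old (.least 2), .old (.sylow 3 3 119 7 1 17 1), .two 2 1 1607 1, .two 5 1 643 1, .old (.sylow 3 1 1072 2 4 67 1), .two 3217 1 2 0, .two 2 1 1609 1, .old (.least 3), .old (.least 2), .two 3221 1 2 0, .old (.least 2), .two 11 1 293 1, .old (.sylow 13 1 248 2 3 31 1), .old (.least 3), .two 2 1 1613 1, .two 7 1 461 1, .old (.sylow 269 1 12 2 2 3 1), .two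 3229 1 2 0, .old (.least 2), .two 3 2 359 1, .two 2 5 101 1, .two 53 1 61 1, .old (.least 2), .two 5 1 647 1, .two 2 2 809 1, .old (.least 3), .two 2 1 1619 1, .two 41 1 79 1, .old (.sylow 5 1 648 2 3 3 4), .two 7 1 463 1, .two 2 1 1621 1, .old (.least 3), .two 2 2 811 1, .old (.least 5), .old (.least 2), .two 17 1 191 1, .old (.sylow 29 1 112 2 4 7 1), .two 3 2 19 2, .old (.least 2), .two 3251 1 2 0, .old (.sylow 3 1 1084 2 2 271 1), .two 3253 1 2 0, .two 2 1 1627 1, .old (.least 3), .old (.sylow 11 1 296 2 3 37 1), .two 3257 1 2 0, .old (.least 2), .two 3259 1 2 0, .old (.least 2), .two 3 1 1087 1, .old (.least 2), .two 13 1 251 1, .old (.sylow 17 1 192 2 6 3 1), .two 5 1 653 1, .old (.least 2), .two 3 3 11 2, .old (.least 2), .two 7 1 467 1, .old (.least 2), .two 3271 1 2 0, .two 2 3 409 1, .two 3 1 1091 1, .two 2 1 1637 1, .two 5 2 131 1, .old (.sylow 13 1 252 2 0 2 0)]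

theorem band23_ok : checkFrom 3186 band23 = true := by decide +kernel

theorem band23_length : band23.length = 91 := rfl

/-- Certificates from 3277 on. -/
def band24 : List Cert := [.two 29 1 113 1, .old (.least 2), .two 3 1 1093 1, .old (.sylow 5 1 656 2 4 41 1), .two 17 1 193 1, .old (.least 2), .two 7 2 67 1, .two 2 2 821 1, .old (.least 3), .old (.least 2), .two 19 1 173 1, .old (.sylow 3 1 1096 2 3 137 1), .old (.least 11), .old (.least 2), .two 3 1 1097 1, .two 2 2 823 1, .two 37 1 89 1, .old (.least 2), .two 5 1 659 1, .two 2 5 103 1, .old (.least 3), .old (.least 2), .two 3299 1 2 0, .old (.sylow 11 1 300 2 0 2 0), .two 3301 1 2 0, .old (.least 2), .two 3 2 367 1, .old (.sylow 7 1 472 2 3 59 1), .two 5 1 661 1, .old (.least 2), .two 3307 1 2 0, .two 2 2 827 1, .two 3 1 1103 1, .old (.least 2), .old (.least 7), .old (.sylow 23 1 144 2 4 3 2), .two 3313 1 2 0, .two 2 1 1657 1, .old (.least 3), .two 2 2 829 1, .two 31 1 107 1, .old (.least 2), .two 3319 1 2 0, .old (.sylow 83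 1 40 2 3 5 1), .two 3 4 41 1, .old (.least 2), .two 3323 1 2 0, .old (.sylow 3 1 1108 2 2 277 1), .old (.least 5), .two 2 1 1663 1, .two 3 1 1109 1, .two 2 8 13 1, .two 3329 1 2 0, .old (.least 2), .two 3331 1 2 0, .old (.least 2), .old (.least 3), .two 2 1 1667 1, .old (.least 5), .old (.sylow 139 1 24 2 3 3 1), .two 47 1 71 1, .two 2 1 1669 1, .old (.least 3), .old (.least 2), .two 13 1 257 1, .old (.least 2), .two 3343 1 2 0, .old (.sylow 11 1 304 2 4 19 1), .old (.least 3), .old (.least 2), .two 3347 1 2 0, .old (.sylow 31 1 108 2 2 3 3), .two 17 1 197 1, .old (.least 2), .two 3 1 1117 1, .two 2 3 419 1, .two 7 1 479 1, .old (.least 2), .old (.least 5), .two 2 2 839 1, .two 3 2 373 1, .old (.least 2), .two 3359 1 2 0, .skip, .two 3361 1 2 0, .two 2 1 41 2, .old (.least 3), .two 2 2 29 2, .two 5 1 673 1, .old (.least 2), .old (.least 7)]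

theorem band24_ok : checkFrom 3277 band24 = true := by decide +kernel

theorem band24_length : band24.length = 91 := rfl

/-- Certificates from 3368 on. -/
def band25 : List Cert := [.two 2 3 421 1, .two 3 1 1123 1, .old (.least 2), .two 3371 1 2 0, .old (.sylow 281 1 12 2 2 3 1), .two 3373 1 2 0, .old (.least 2), .two 3 3 5 3, .two 2 4 211 1, .two 11 1 307 1, .old (.least 2), .two 31 1 109 1, .old (.least 2), .old (.least 3), .old (.least 2), .two 17 1 199 1, .old (.sylow 47 1 72 2 3 3 2), .two 5 1 677 1, .two 2 1 1693 1, .two 3 1 1129 1, .old (.least 2), .two 3389 1 2 0, .old (.least 2), .two 3391 1 2 0, .two 2 6 53 1, .old (.least 3), .two 2 1 1697 1, .old (.least 5), .old (.sylow 3 1 1132 2 2 283 1), .two 43 1 79 1, .two 2 1 1699 1, .old (.least 3), .old (.sylow 5 2 136 2 3 17 1), .two 19 1 179 1, .old (.least 2), .two 41 1 83 1, .old (.least 2), .old (.least 3), .old (.least 2), .two 3407 1 2 0, .old (.sylow 71 1 48 2 4 3 1), .two 7 1 487 1, .old (.least 2), .two 3 2 379 1, .two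 2 2 853 1, .two 3413 1 2 0, .old (.least 2), .two 5 1 683 1, .old (.sylow 7 1 488 2 3 61 1), .old (.least 3), .two 2 1 1709 1, .two 13 1 263 1, .skip, .two 11 1 311 1, .old (.least 2), .old (.least 3), .two 2 5 107 1, .two 5 2 137 1, .old (.least 2), .two 23 1 149 1, .two 2 2 857 1, .two 3 3 127 1, .old (.least 2), .two 47 1 73 1, .skip, .two 3433 1 2 0, .old (.least 2), .old (.least 3), .two 2 2 859 1, .two 7 1 491 1, .old (.least 2), .two 19 1 181 1, .old (.sylow 5 1 688 2 4 43 1), .old (.least 3), .two 2 1 1721 1, .two 11 1 313 1, .old (.sylow 41 1 84 2 0 2 0), .old (.least 5), .two 2 1 1723 1, .two 3 2 383 1, .two 2 3 431 1, .two 3449 1 2 0, .old (.least 2), .old (.least 7), .two 2 2 863 1, .two 3 1 1151 1, .old (.least 2), .two 5 1 691 1, .two 2 7 3 3, .two 3457 1 2 0, .old (.least 2)]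

theorem band25_ok : checkFrom 3368 band25 = true := by decide +kernel

theorem band25_length : band25.length = 91 := rfl

/-- Certificates from 3459 on. -/
def band26 : List Cert := [.two 3 1 1153 1, .old (.least 2), .two 3461 1 2 0, .old (.least 2), .two 3463 1 2 0, .two 2 3 433 1, .old (.least 3), .two 2 1 1733 1, .two 3467 1 2 0, .old (.sylow 3 1 1156 2 2 17 2), .two 3469 1 2 0, .old (.least 2), .old (.least 3), .old (.sylow 7 1 496 2 4 31 1), .two 23 1 151 1, .old (.least 2), .two 5 2 139 1, .old (.least 2), .old (.least 3), .old (.least 2), .two 7 2 71 1, .old (.sylow 29 1 120 2 0 2 0), .two 59 2 2 0, .two 2 1 1741 1, .two 3 4 43 1, .old (.least 2), .old (.least 5), .old (.least 2), .two 11 1 317 1, .two 2 5 109 1, .two 3 1 1163 1, .old (.least 2), .two 3491 1 2 0, .old (.sylow 97 1 36 2 2 3 2), .two 7 1 499 1, .two 2 1 1747 1, .old (.least 3), .old (.sylow 19 1 184 2 3 23 1), .two 13 1 269 1, .old (.least 2), .two 3499 1 2 0, .old (.least 2), .two 3 2 389 1, .old (.least 2),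 .two 31 1 113 1, .old (.sylow 3 1 1168 2 4 73 1), .two 5 1 701 1, .two 2 1 1753 1, .old (.least 3), .two 2 2 877 1, .two 11 2 29 1, .old (.least 2), .two 3511 1 2 0, .two 2 3 439 1, .two 3 1 1171 1, .old (.least 2), .old (.least 5), .old (.sylow 293 1 12 2 2 3 1), .two 3517 1 2 0, .two 2 1 1759 1, .old (.least 3), .old (.sylow 11 1 320 2 6 5 1), .two 7 1 503 1, .old (.least 2), .two 13 1 271 1, .two 2 2 881 1, .old (.least 3), .old (.least 2), .two 3527 1 2 0, .skip, .two 3529 1 2 0, .old (.least 2), .old (.least 3), .two 2 2 883 1, .two 3533 1 2 0, .old (.least 2), .old (.least 5), .old (.sylow 13 1 272 2 4 17 1), .two 3 3 131 1, .old (.least 2), .two 3539 1 2 0, .old (.sylow 5 1 708 2 0 2 0), .two 3541 1 2 0, .old (.least 2), .two 3 1 1181 1, .two 2 3 443 1, .two 5 1 709 1, .old (.least 2), .two 3547 1 2 0, .two 2 2 887 1, .old (.least 3)]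

theorem band26_ok : checkFrom 3459 band26 = true := by decide +kernel

theorem band26_length : band26.length = 91 := rfl

/-- Certificates from 3550 on. -/
def band27 : List Cert := [.old (.least 2), .two 53 1 67 1, .old (.sylow 37 1 96 2 5 3 1), .old (.least 11), .two 2 1 1777 1, .old (.least 3), .old (.least 2), .two 3557 1 2 0, .old (.least 2), .two 3559 1 2 0, .old (.sylow 89 1 40 2 3 5 1), .two 3 1 1187 1, .old (.least 2), .two 7 1 509 1, .old (.sylow 11 1 324 2 2 3 4), .old (.least 5), .two 2 1 1783 1, .old (.least 3), .two 2 4 223 1, .two 43 1 83 1, .old (.least 2), .two 3571 1 2 0, .old (.least 2), .two 3 2 397 1, .two 2 1 1787 1, .old (.least 5), .old (.sylow 3 1 1192 2 3 149 1), .two 7 2 73 1, .two 2 1 1789 1, .two 3 1 1193 1, .old (.least 2), .two 3581 1 2 0, .old (.least 2), .two 3583 1 2 0, .two 2 9 7 1, .old (.least 3), .old (.least 2), .two 17 1 211 1, .old (.sylow 23 1 156 2 0 2 0), .two 37 1 97 1, .old (.least 2), .old (.sylow 7 1 513 3 3 19 1), .two 2 3 449 1, .two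 3593 1 2 0, .old (.least 2), .two 5 1 719 1, .old (.least 2), .old (.least 3), .old (.least 2), .two 59 1 61 1, .skip, .two 13 1 277 1, .two 2 1 1801 1, .two 3 1 1201 1, .old (.least 2), .old (.least 5), .old (.least 2), .two 3607 1 2 0, .old (.sylow 11 1 328 2 3 41 1), .two 3 2 401 1, .old (.least 2), .two 23 1 157 1, .old (.sylow 43 1 84 2 0 2 0), .two 3613 1 2 0, .old (.least 2), .old (.least 3), .two 2 5 113 1, .two 3617 1 2 0, .old (.least 2), .old (.least 7), .old (.least 2), .old (.least 3), .two 2 1 1811 1, .two 3623 1 2 0, .old (.sylow 151 1 24 2 3 3 1), .two 5 3 29 1, .old (.least 2), .old (.least 3), .two 2 2 907 1, .two 19 1 191 1, .old (.least 2), .two 3631 1 2 0, .two 2 4 227 1, .old (.least 3), .old (.least 2), .two 5 1 727 1, .old (.sylow 101 1 36 2 2 3 2), .two 3637 1 2 0, .old (.least 2), .two 3 1 1213 1, .old (.sylow 13 1 280 2 0 2 0)]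

theorem band27_ok : checkFrom 3550 band27 = true := by decide +kernel

theorem band27_length : band27.length = 91 := rfl

/-- Every order in the range has a certificate. -/
theorem exists_cert {n : ℕ} (h1 : 1093 ≤ n) (h2 : n ≤ 3640) : ∃ w, check n w = true := by
  by_cases h10 : n < 1184
  · exact exists_of_checkFrom band0_ok (by omega) (by rw [band0_length]; omega)
  by_cases h11 : n < 1275
  · exact exists_of_checkFrom band1_ok (by omega) (by rw [band1_length]; omega)
  by_cases h12 : n < 1366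
  · exact exists_of_checkFrom band2_ok (by omega) (by rw [band2_length]; omega)
  by_cases h13 : n < 1457
  · exact exists_of_checkFrom band3_ok (by omega) (by rw [band3_length]; omega)
  by_cases h14 : n < 1548
  · exact exists_of_checkFrom band4_ok (by omega) (by rw [band4_length]; omega)
  by_cases h15 : n < 1639
  · exact exists_of_checkFrom band5_ok (by omega) (by rw [band5_length]; omega)
  by_cases h16 : n < 1730
  · exact exists_of_checkFrom band6_ok (by omega) (by rw [band6_length]; omega)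
  by_cases h17 : n < 1821
  · exact exists_of_checkFrom band7_ok (by omega) (by rw [band7_length]; omega)
  by_cases h18 : n < 1912
  · exact exists_of_checkFrom band8_ok (by omega) (by rw [band8_length]; omega)
  by_cases h19 : n < 2003
  · exact exists_of_checkFrom band9_ok (by omega) (by rw [band9_length]; omega)
  by_cases h20 : n < 2094
  · exact exists_of_checkFrom band10_ok (by omega) (by rw [band10_length]; omega)
  by_cases h21 : n < 2185
  · exact exists_of_checkFrom band11_ok (by omega) (by rw [band11_length]; omega)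
  by_cases h22 : n < 2276
  · exact exists_of_checkFrom band12_ok (by omega) (by rw [band12_length]; omega)
  by_cases h23 : n < 2367
  · exact exists_of_checkFrom band13_ok (by omega) (by rw [band13_length]; omega)
  by_cases h24 : n < 2458
  · exact exists_of_checkFrom band14_ok (by omega) (by rw [band14_length]; omega)
  by_cases h25 : n < 2549
  · exact exists_of_checkFrom band15_ok (by omega) (by rw [band15_length]; omega)
  by_cases h26 : n < 2640
  · exact exists_of_checkFrom band16_ok (by omega) (by rw [band16_length]; omega)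
  by_cases h27 : n < 2731
  · exact exists_of_checkFrom band17_ok (by omega) (by rw [band17_length]; omega)
  by_cases h28 : n < 2822
  · exact exists_of_checkFrom band18_ok (by omega) (by rw [band18_length]; omega)
  by_cases h29 : n < 2913
  · exact exists_of_checkFrom band19_ok (by omega) (by rw [band19_length]; omega)
  by_cases h30 : n < 3004
  · exact exists_of_checkFrom band20_ok (by omega) (by rw [band20_length]; omega)
  by_cases h31 : n < 3095
  · exact exists_of_checkFrom band21_ok (by omega) (by rw [band21_length]; omega)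
  by_cases h32 : n < 3186
  · exact exists_of_checkFrom band22_ok (by omega) (by rw [band22_length]; omega)
  by_cases h33 : n < 3277
  · exact exists_of_checkFrom band23_ok (by omega) (by rw [band23_length]; omega)
  by_cases h34 : n < 3368
  · exact exists_of_checkFrom band24_ok (by omega) (by rw [band24_length]; omega)
  by_cases h35 : n < 3459
  · exact exists_of_checkFrom band25_ok (by omega) (by rw [band25_length]; omega)
  by_cases h36 : n < 3550
  · exact exists_of_checkFrom band26_ok (by omega) (by rw [band26_length]; omega)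
  by_cases h37 : n < 3641
  · exact exists_of_checkFrom band27_ok (by omega) (by rw [band27_length]; omega)
  omega

end CfsgLib.SmallSimple.Band3640
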